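import Mathlib
import Cfsg.Agent.StandardComponent.CentCore
import Cfsg.Agent.S0058

/-!
# Involution centralisers which are a fixed group modulo a normal subgroup of odd order

`Good X ζ`: the properties of the double covers of the alternating groups of degree 8 and 9 which are used.
`Has ζ z p`: the function `p` restricts to a homomorphism of the centraliser of the involution `z` onto `X`, whose
kernel has odd order, with `p z = ζ`.
-/

set_option autoImplicit false

namespace Cfsg.Agent.CoverCore.Abs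

open Subgroup Cfsg Cfsg.Agent.StandardComponent.CentCore

/-- the properties of the group `X` and its central involution `ζ` -/
structure Good (X : Type*) [Group X] (ζ : X) : Prop where
  z_ne : ζ ≠ 1
  zz : ζ * ζ = 1
  comm : ∀ x, x * ζ = ζ * x
  one_class : ∀ u v : X, u * u = 1 → v * v = 1 → u ≠ 1 → u ≠ ζ → v ≠ 1 → v ≠ ζ →
    ∃ w, w * u * w⁻¹ = v
  fix : ∀ a b y : X, a * a = 1 → b * b = 1 → a * b = b * a → a ≠ 1 → a ≠ ζ → b ≠ 1 → b ≠ ζ →
    a ≠ b → a ≠ b * ζ → y * a = a * y → y * b = b * y → Odd (orderOf y) → y = 1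
  four : ∃ V : Subgroup X, (∀ a ∈ V, ∀ b ∈ V, a * b = b * a) ∧ (∀ a ∈ V, a * a = 1) ∧
    Nat.card V = 16 ∧ ζ ∈ V

/-- elementary abelian of order 16 -/
structure ESixteen {G : Type*} [Group G] (V : Subgroup G) : Prop where
  comm : ∀ a ∈ V, ∀ b ∈ V, a * b = b * a
  sq : ∀ a ∈ V, a * a = 1
  card : Nat.card V = 16

section general

variable {G : Type*} [Group G]

theorem inv_of_sq {x : G} (h : x * x = 1) : x⁻¹ = x := inv_eq_of_mul_eq_one_left h

theorem exists_notMem {V : Subgroup G} (hV : Nat.card V = 16) (l : List G) (hl : l.length < 16) :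
    ∃ x ∈ V, x ∉ l := by
  classical
  by_contra hcon
  push Not at hcon
  have hfin : Finite V := Nat.finite_of_card_ne_zero (by omega)
  have h1 : (V : Set G) ⊆ (l.toFinset : Set G) := fun x hx => by
    rw [Finset.mem_coe, List.mem_toFinset]; exact hcon x hx
  have h2 := Set.ncard_le_ncard h1 (Finset.finite_toSet _)
  rw [Set.ncard_coe_finset] at h2
  have h3 : (V : Set G).ncard = 16 := by rw [← Nat.card_coe_set_eq]; exact hV
  have h4 := List.toFinset_card_le l
  omega

/-- Generation of a group of odd order by the centralisers of the involutions of a four-group. -/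
theorem le_of_four [Finite G] {K L : Subgroup G} {a b : G} (aa : a * a = 1) (bb : b * b = 1)
    (ab : a * b = b * a) (ha : a ≠ 1) (hb : b ≠ 1) (hab : a ≠ b) (hK : Odd (Nat.card K))
    (hKa : ∀ x ∈ K, a * x * a⁻¹ ∈ K) (hKb : ∀ x ∈ K, b * x * b⁻¹ ∈ K)
    (h1 : ∀ x ∈ K, x * a = a * x → x ∈ L) (h2 : ∀ x ∈ K, x * b = b * x → x ∈ L)
    (h3 : ∀ x ∈ K, x * (a * b) = a * b * x → x ∈ L) : K ≤ L := by
  classical
  have hba : b * a = a * b := ab.symm
  have ai : a⁻¹ = a := inv_of_sq aa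
  have bi : b⁻¹ = b := inv_of_sq bb
  have e1 : a * (a * b) = b := by rw [← mul_assoc, aa, one_mul]
  have e2 : b * (a * b) = a := by rw [ab, ← mul_assoc, bb, one_mul]
  have e3 : a * b * a = b := by rw [mul_assoc, hba, e1]
  have e4 : a * b * b = a := by rw [mul_assoc, bb, mul_one]
  have e5 : a * b * (a * b) = 1 := by rw [mul_assoc, e2, aa]
  let A : Subgroup G :=
    { carrier := {x | x = 1 ∨ x = a ∨ x = b ∨ x = a * b}
      one_mem' := Or.inl rfl
      mul_mem' := by
        rintro x y (rfl | rfl | rfl | rfl) (rfl | rfl | rfl | rfl) <;>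
          simp only [Set.mem_ofPred_eq, one_mul, mul_one, aa, bb, hba, e1, e2, e3, e4, e5, true_or,
            or_true]
      inv_mem' := by
        rintro x (rfl | rfl | rfl | rfl)
        · left; exact inv_one
        · right; left; exact ai
        · right; right; left; exact bi
        · right; right; right
          rw [mul_inv_rev, ai, bi, hba] }
  have hmem : ∀ x, x ∈ A ↔ x = 1 ∨ x = a ∨ x = b ∨ x = a * b := fun x => Iff.rfl
  have hab1 : a * b ≠ 1 := fun h => hab ((mul_eq_one_iff_eq_inv.1 h).trans bi)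
  have hA4 : Nat.card A = 4 := by
    have h5 : (A : Set G) = (({1, a, b, a * b} : Finset G) : Set G) := by
      ext x
      simp only [SetLike.mem_coe, hmem, Finset.coe_insert, Finset.coe_singleton, Set.mem_insert_iff,
        Set.mem_singleton_iff]
    have h6 : Nat.card A = (A : Set G).ncard := rfl
    rw [h6, h5, Set.ncard_coe_finset]
    rw [Finset.card_insert_of_notMem, Finset.card_insert_of_notMem, Finset.card_pair]
    · intro h; exact ha (mul_eq_right.1 h.symm)
    · simp only [Finset.mem_insert, Finset.mem_singleton, not_or]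
      exact ⟨hab, fun h => hb (mul_eq_left.1 h.symm)⟩
    · simp only [Finset.mem_insert, Finset.mem_singleton, not_or]
      exact ⟨ha.symm, hb.symm, hab1.symm⟩
  have hcomm : IsMulCommutative A := ⟨⟨by
    rintro ⟨x, hx⟩ ⟨y, hy⟩
    apply Subtype.ext
    change x * y = y * x
    rcases (hmem x).1 hx with rfl | rfl | rfl | rfl <;> rcases (hmem y).1 hy with rfl | rfl | rfl | rfl <;>
      simp only [one_mul, mul_one, aa, bb, hba, e1, e2, e3, e4, e5]⟩⟩
  have hsq : ∀ x ∈ A, x * x = 1 := by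
    intro x hx
    rcases (hmem x).1 hx with rfl | rfl | rfl | rfl
    · exact mul_one 1
    · exact aa
    · exact bb
    · exact e5
  have hcyc : ¬ IsCyclic A := by
    intro hc
    obtain ⟨g, hg⟩ := hc.exists_generator
    have h5 : orderOf g = Nat.card A := orderOf_eq_card_of_forall_mem_zpowers hg
    have h6 : orderOf g ∣ 2 := orderOf_dvd_of_pow_eq_one (by
      rw [pow_two]; exact Subtype.ext (hsq g g.2))
    rw [h5, hA4] at h6
    exact absurd h6 (by norm_num)
  have hconj : ∀ x ∈ A, ∀ y ∈ K, x * y * x⁻¹ ∈ K := by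
    intro x hx y hy
    rcases (hmem x).1 hx with rfl | rfl | rfl | rfl
    · simpa using hy
    · exact hKa y hy
    · exact hKb y hy
    · have := hKa _ (hKb y hy)
      have h7 : a * b * y * (a * b)⁻¹ = a * (b * y * b⁻¹) * a⁻¹ := by group
      rw [h7]; exact this
  have hnorm : A ≤ normalizer (K : Set G) := by
    intro x hx
    rw [mem_normalizer_iff]
    intro y
    refine ⟨hconj x hx y, fun hy => ?_⟩
    have h7 := hconj x⁻¹ (A.inv_mem hx) _ hy
    have h8 : x⁻¹ * (x * y * x⁻¹) * x⁻¹⁻¹ = y := by group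
    rwa [h8] at h7
  have hcop : (Nat.card A).Coprime (Nat.card K) := by
    rw [hA4]
    have : (4 : ℕ) = 2 ^ 2 := by norm_num
    rw [this]
    exact Nat.Coprime.pow_left 2 (Nat.coprime_two_left.2 hK)
  have hgen := Cfsg.Agent.S0058.result A K hcyc hnorm hcop
  rw [← hgen]
  refine iSup₂_le ?_
  rintro x ⟨hxA, hx1⟩ y ⟨hyK, hyx⟩
  have hyx' := mem_cent.1 hyx
  rcases (hmem x).1 hxA with rfl | rfl | rfl | rfl
  · exact absurd rfl hx1
  · exact h1 y hyK hyx'
  · exact h2 y hyK hyx'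
  · exact h3 y hyK hyx'

/-- Involutions whose product has odd order are conjugate under a power of the product. -/
theorem exists_conj_of_odd {x y : G} (xx : x * x = 1) (yy : y * y = 1) (ho : Odd (orderOf (x * y))) :
    ∃ k ∈ zpowers (x * y), k * x * k⁻¹ = y := by
  obtain ⟨m, hm⟩ := ho
  set r := x * y with hr
  have hxi : x⁻¹ = x := inv_of_sq xx
  have hyi : y⁻¹ = y := inv_of_sq yy
  have hinv : x * r * x⁻¹ = r⁻¹ := by
    rw [hr, mul_inv_rev, hxi, hyi]
    calc x * (x * y) * x = x * x * (y * x) := by group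
      _ = y * x := by rw [xx, one_mul]
  have hpow : ∀ k : ℕ, x * r ^ k * x⁻¹ = (r ^ k)⁻¹ := fun k => by
    rw [← conj_pow, hinv, inv_pow]
  refine ⟨r ^ m, pow_mem (mem_zpowers r) m, ?_⟩
  have h1 : r ^ (2 * m + 1) = 1 := by rw [← hm]; exact pow_orderOf_eq_one r
  -- `r ^ m x r ^ (-m) = x r^(-2 m) = x r = y`
  have h2 : r ^ m * x = x * (r ^ m)⁻¹ := by
    have := hpow m
    rw [hxi] at this
    rw [← this]
    calc r ^ m * x = (x * x) * (r ^ m * x) := by rw [xx, one_mul]
      _ = x * (x * r ^ m * x) := by group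
  have h3 : (r ^ m)⁻¹ * (r ^ m)⁻¹ = r := by
    rw [← mul_inv_rev, ← pow_add, inv_eq_iff_mul_eq_one, ← pow_succ]
    rw [← h1]; congr 1; omega
  rw [h2, mul_assoc, h3, hr, ← mul_assoc, xx, one_mul]

theorem odd_card_of_forall [Finite G] (K : Subgroup G) (h : ∀ x ∈ K, Odd (orderOf x)) :
    Odd (Nat.card K) := by
  by_contra hcon
  rw [Nat.not_odd_iff_even, even_iff_two_dvd] at hcon
  have : Fact (Nat.Prime 2) := ⟨Nat.prime_two⟩
  obtain ⟨x, hx⟩ := exists_prime_orderOf_dvd_card' 2 hcon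
  have h1 := h x x.2
  rw [Subgroup.orderOf_coe, hx] at h1
  exact absurd h1 (by decide)

theorem odd_orderOf [Finite G] {K : Subgroup G} (h : Odd (Nat.card K)) {x : G} (hx : x ∈ K) :
    Odd (orderOf x) := by
  have h1 := orderOf_dvd_natCard (⟨x, hx⟩ : K)
  rw [Subgroup.orderOf_mk] at h1
  exact Odd.of_dvd_nat h h1

theorem eq_one_of_odd_of_sq {x : G} (h : Odd (orderOf x)) (hx : x * x = 1) : x = 1 := by
  have h1 : orderOf x ∣ 2 := orderOf_dvd_of_pow_eq_one (by rw [pow_two, hx])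
  have h2 : orderOf x = 1 := by
    rcases (Nat.dvd_prime Nat.prime_two).1 h1 with h3 | h3
    · exact h3
    · rw [h3] at h; exact absurd h (by decide)
  exact orderOf_eq_one_iff.1 h2

end general

namespace Good

variable {X : Type*} [Group X] {ζ : X}

/-- A subgroup of odd order normalised by an elementary abelian group of order 16 is trivial. -/
theorem eq_one [Finite X] (h : Good X ζ) {V Y : Subgroup X} (hV : ESixteen V) (hY : Odd (Nat.card Y))
    (hinv : ∀ v ∈ V, ∀ y ∈ Y, v * y * v⁻¹ ∈ Y) : ∀ y ∈ Y, y = 1 := by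
  -- first step: centralisers of non-central involutions
  have key : ∀ u ∈ V, u ≠ 1 → u ≠ ζ → ∀ y ∈ Y, y * u = u * y → y = 1 := by
    intro u hu hu1 huz
    obtain ⟨c, hc, hcl⟩ := exists_notMem hV.card [1, ζ, u, u * ζ] (by norm_num)
    simp only [List.mem_cons, List.not_mem_nil, or_false, not_or] at hcl
    obtain ⟨hc1, hcz, hcu, hcuz⟩ := hcl
    obtain ⟨d, hd, hdl⟩ := exists_notMem hV.card
      [1, ζ, u, u * ζ, c, c⁻¹ * 1, c⁻¹ * ζ, c⁻¹ * u, c⁻¹ * (u * ζ)] (by norm_num)
    simp only [List.mem_cons, List.not_mem_nil, or_false, not_or] at hdl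
    obtain ⟨hd1, hdz, hdu, hduz, hdc, hdc1, hdcz, hdcu, hdcuz⟩ := hdl
    have hcd1 : c * d ≠ 1 := fun h1 => hdc1 (eq_inv_mul_iff_mul_eq.2 h1)
    have hcdz : c * d ≠ ζ := fun h1 => hdcz (eq_inv_mul_iff_mul_eq.2 h1)
    have hcdu : c * d ≠ u := fun h1 => hdcu (eq_inv_mul_iff_mul_eq.2 h1)
    have hcduz : c * d ≠ u * ζ := fun h1 => hdcuz (eq_inv_mul_iff_mul_eq.2 h1)
    -- `e` outside `⟨ζ, u⟩`
    have hfix : ∀ e ∈ V, e ≠ 1 → e ≠ ζ → e ≠ u → e ≠ u * ζ → ∀ y, Odd (orderOf y) →
        y * u = u * y → y * e = e * y → y = 1 := fun e he he1 hez heu heuz y hy hyu hye =>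
      h.fix e u y (hV.sq e he) (hV.sq u hu) (hV.comm e he u hu) he1 hez hu1 huz heu heuz hye hyu hy
    have hle : Y ⊓ centralizer {u} ≤ ⊥ := by
      refine le_of_four (hV.sq c hc) (hV.sq d hd) (hV.comm c hc d hd) hc1 hd1 (Ne.symm hdc) ?_ ?_ ?_ ?_ ?_ ?_
      · exact Odd.of_dvd_nat hY (card_dvd_of_le inf_le_left)
      · rintro x ⟨hx, hxu⟩
        refine ⟨hinv c hc x hx, mem_cent.2 ?_⟩
        have h1 := mem_cent.1 hxu
        have h2 := hV.comm c hc u hu
        calc c * x * c⁻¹ * u = c * x * (c⁻¹ * (u * c)) * c⁻¹ := by group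
          _ = c * x * (c⁻¹ * (c * u)) * c⁻¹ := by rw [h2]
          _ = c * (x * u) * c⁻¹ := by group
          _ = c * u * x * c⁻¹ := by rw [h1]; group
          _ = u * (c * x * c⁻¹) := by rw [h2]; group
      · rintro x ⟨hx, hxu⟩
        refine ⟨hinv d hd x hx, mem_cent.2 ?_⟩
        have h1 := mem_cent.1 hxu
        have h2 := hV.comm d hd u hu
        calc d * x * d⁻¹ * u = d * x * (d⁻¹ * (u * d)) * d⁻¹ := by group
          _ = d * x * (d⁻¹ * (d * u)) * d⁻¹ := by rw [h2]
          _ = d * (x * u) * d⁻¹ := by group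
          _ = d * u * x * d⁻¹ := by rw [h1]; group
          _ = u * (d * x * d⁻¹) := by rw [h2]; group
      · rintro x ⟨hx, hxu⟩ hxc
        exact mem_bot.2 (hfix c hc hc1 hcz hcu hcuz x (odd_orderOf hY hx) (mem_cent.1 hxu) hxc)
      · rintro x ⟨hx, hxu⟩ hxc
        exact mem_bot.2 (hfix d hd hd1 hdz hdu hduz x (odd_orderOf hY hx) (mem_cent.1 hxu) hxc)
      · rintro x ⟨hx, hxu⟩ hxc
        exact mem_bot.2 (hfix (c * d) (V.mul_mem hc hd) hcd1 hcdz hcdu hcduz x (odd_orderOf hY hx)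
          (mem_cent.1 hxu) hxc)
    intro y hy hyu
    exact mem_bot.1 (hle ⟨hy, mem_cent.2 hyu⟩)
  obtain ⟨c, hc, hcl⟩ := exists_notMem hV.card [1, ζ] (by norm_num)
  simp only [List.mem_cons, List.not_mem_nil, or_false, not_or] at hcl
  obtain ⟨hc1, hcz⟩ := hcl
  obtain ⟨d, hd, hdl⟩ := exists_notMem hV.card [1, ζ, c, c⁻¹ * 1, c⁻¹ * ζ] (by norm_num)
  simp only [List.mem_cons, List.not_mem_nil, or_false, not_or] at hdl
  obtain ⟨hd1, hdz, hdc, hdc1, hdcz⟩ := hdl
  have hcd1 : c * d ≠ 1 := fun h1 => hdc1 (eq_inv_mul_iff_mul_eq.2 h1)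
  have hcdz : c * d ≠ ζ := fun h1 => hdcz (eq_inv_mul_iff_mul_eq.2 h1)
  have hle : Y ≤ ⊥ := by
    refine le_of_four (hV.sq c hc) (hV.sq d hd) (hV.comm c hc d hd) hc1 hd1 (Ne.symm hdc) hY
      (hinv c hc) (hinv d hd) ?_ ?_ ?_
    · intro x hx hxc
      exact mem_bot.2 (key c hc hc1 hcz x hx hxc)
    · intro x hx hxc
      exact mem_bot.2 (key d hd hd1 hdz x hx hxc)
    · intro x hx hxc
      exact mem_bot.2 (key (c * d) (V.mul_mem hc hd) hcd1 hcdz x hx hxc)
  intro y hy
  exact mem_bot.1 (hle hy)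

/-- A normal subgroup of odd order is trivial. -/
theorem eq_one_of_normal [Finite X] (h : Good X ζ) {Y : Subgroup X} (hY : Odd (Nat.card Y))
    (hinv : ∀ v : X, ∀ y ∈ Y, v * y * v⁻¹ ∈ Y) : ∀ y ∈ Y, y = 1 := by
  obtain ⟨V, h1, h2, h3, -⟩ := h.four
  exact h.eq_one ⟨h1, h2, h3⟩ hY fun v _ => hinv v

end Good

end Cfsg.Agent.CoverCore.Abs
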