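import Cfsg.Agent.CoverCore.Abs
import Cfsg.Agent.SporRec.TwoAn

/-!
# The double covers of the alternating groups of degree 8 and 9 satisfy `Good`
-/

set_option autoImplicit false

namespace Cfsg.Agent.CoverCore.AltGood

open Subgroup Equiv
open Cfsg.Agent.CoverCore.Abs Cfsg.Agent.SporRec.TwoAn

/-! ### permutations of at most nine points -/

section perm

variable {n : ℕ}

/-- involutions moving eight points are conjugate under even permutations -/
theorem exists_even_conj {σ τ : Perm (Fin n)} (hσ : σ * σ = 1) (hτ : τ * τ = 1)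
    (h8 : σ.support.card = 8) (h8' : τ.support.card = 8) :
    ∃ g ∈ alternatingGroup (Fin n), g * σ * g⁻¹ = τ := by
  have : Fact (Nat.Prime 2) := ⟨Nat.prime_two⟩
  have hct : ∀ ρ : Perm (Fin n), ρ * ρ = 1 → ρ.support.card = 8 →
      ρ.cycleType = Multiset.replicate 4 2 := by
    intro ρ hρ hρ8
    have hρ1 : ρ ≠ 1 := by
      rintro rfl
      rw [Perm.support_one, Finset.card_empty] at hρ8
      omega
    have ho : orderOf ρ = 2 := orderOf_eq_prime (by rw [pow_two, hρ]) hρ1
    obtain ⟨k, hk⟩ := Perm.cycleType_prime_order (σ := ρ) (by rw [ho]; exact Nat.prime_two)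
    rw [ho] at hk
    have hs := Perm.sum_cycleType ρ
    rw [hk, Multiset.sum_replicate, hρ8, smul_eq_mul] at hs
    have : k + 1 = 4 := by omega
    rw [hk, this]
  have hconj : IsConj σ τ := by
    rw [Perm.isConj_iff_cycleType_eq, hct σ hσ h8, hct τ hτ h8']
  obtain ⟨g, hg⟩ := isConj_iff.1 hconj
  rcases Int.units_eq_one_or (Perm.sign g) with h1 | h1
  · exact ⟨g, Perm.mem_alternatingGroup.2 h1, hg⟩
  · obtain ⟨a, ha⟩ : ∃ a, a ∈ σ.support := by
      have : σ.support.Nonempty := by rw [← Finset.card_pos]; omega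
      exact this
    have ha' : σ a ≠ a := Perm.mem_support.1 ha
    have hσσ : σ (σ a) = a := by
      have := congrArg (fun f : Perm (Fin n) => f a) hσ
      simpa using this
    have hcomm : swap a (σ a) * σ * (swap a (σ a))⁻¹ = σ := by
      have h2 : σ * swap a (σ a) * σ⁻¹ = swap a (σ a) := by
        have h3 : σ * swap a (σ a) * σ⁻¹ = swap (σ a) (σ (σ a)) := by
          rw [← swap_apply_apply]
        rw [h3, hσσ, swap_comm]
      have h4 : σ * swap a (σ a) = swap a (σ a) * σ := mul_inv_eq_iff_eq_mul.1 h2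
      rw [← h4, mul_inv_cancel_right]
    refine ⟨g * swap a (σ a), ?_, ?_⟩
    · rw [Perm.mem_alternatingGroup, map_mul, h1, Perm.sign_swap ha'.symm]
      decide
    · calc g * swap a (σ a) * σ * (g * swap a (σ a))⁻¹ =
            g * (swap a (σ a) * σ * (swap a (σ a))⁻¹) * g⁻¹ := by group
        _ = τ := by rw [hcomm, hg]

/-- A permutation of odd order which commutes with a four-group, semiregular on eight points, is trivial. -/
theorem eq_one_of_comm (hn : n ≤ 9) {α β σ : Perm (Fin n)} (hα : α * α = 1) (hβ : β * β = 1)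
    (hαβ : α * β = β * α) (h8 : α.support.card = 8) (h8' : β.support.card = 8)
    (h8'' : (α * β).support.card = 8) (h1 : σ * α = α * σ) (h2 : σ * β = β * σ)
    (ho : Odd (orderOf σ)) : σ = 1 := by
  classical
  have ap : ∀ {f g : Perm (Fin n)}, f = g → ∀ x, f x = g x := fun h x => by rw [h]
  have aa : ∀ x, α (α x) = x := fun x => ap hα x
  have bb : ∀ x, β (β x) = x := fun x => ap hβ x
  have ab : ∀ x, α (β x) = β (α x) := fun x => ap hαβ x
  have sa : ∀ x, σ (α x) = α (σ x) := fun x => ap h1 x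
  have sb : ∀ x, σ (β x) = β (σ x) := fun x => ap h2 x
  -- at most one fixed point
  have hfix : ∀ ρ : Perm (Fin n), ρ.support.card = 8 → ∀ x y, ρ x = x → ρ y = y → x = y := by
    intro ρ hρ x y hx hy
    have h3 : (ρ.supportᶜ).card ≤ 1 := by
      rw [Finset.card_compl, Fintype.card_fin, hρ]; omega
    rw [Finset.card_le_one] at h3
    exact h3 x (by rw [Finset.mem_compl, Perm.mem_support, not_not]; exact hx) y
      (by rw [Finset.mem_compl, Perm.mem_support, not_not]; exact hy)
  have hb : ∀ x, α x ≠ x → β x ≠ x := by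
    intro x hx h3
    apply hx
    exact (hfix β h8' x (α x) h3 (by rw [← ab, h3])).symm
  have hc : ∀ x, α x ≠ x → α (β x) ≠ x := by
    intro x hx h3
    apply hx
    refine (hfix (α * β) h8'' x (α x) h3 ?_).symm
    rw [Perm.mul_apply, ← ab, h3]
  have hS : ∀ x, α x ≠ x → α (σ x) ≠ σ x := by
    intro x hx h3
    apply hx
    rw [← sa] at h3
    exact σ.injective h3
  -- orbits
  let O : Fin n → Finset (Fin n) := fun y => {y, α y, β y, α (β y)}
  have hO : ∀ y z, z ∈ O y ↔ z = y ∨ z = α y ∨ z = β y ∨ z = α (β y) := fun y z => by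
    simp only [O, Finset.mem_insert, Finset.mem_singleton]
  have hO4 : ∀ y, α y ≠ y → (O y).card = 4 := by
    intro y hy
    have e1 := hb y hy
    have e2 := hc y hy
    simp only [O]
    rw [Finset.card_insert_of_notMem, Finset.card_insert_of_notMem, Finset.card_pair]
    · intro h3
      have h4 : α (β y) = β y := h3.symm
      rw [ab] at h4
      exact hy (β.injective h4)
    · simp only [Finset.mem_insert, Finset.mem_singleton, not_or]
      exact ⟨fun h3 => e2 (by rw [← h3, aa]), fun h3 => e1 (α.injective h3).symm⟩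
    · simp only [Finset.mem_insert, Finset.mem_singleton, not_or]
      exact ⟨hy.symm, e1.symm, e2.symm⟩
  have hsymm : ∀ y z, z ∈ O y → y ∈ O z := by
    intro y z h3
    rcases (hO y z).1 h3 with rfl | rfl | rfl | rfl
    · exact (hO _ _).2 (Or.inl rfl)
    · exact (hO _ _).2 (Or.inr (Or.inl (aa y).symm))
    · exact (hO _ _).2 (Or.inr (Or.inr (Or.inl (bb y).symm)))
    · exact (hO _ _).2 (Or.inr (Or.inr (Or.inr (by rw [← ab (β y), bb, aa]))))
  have htrans : ∀ y z w, z ∈ O y → w ∈ O z → w ∈ O y := by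
    intro y z w h3 h4
    rcases (hO y z).1 h3 with rfl | rfl | rfl | rfl
    · exact h4
    · rcases (hO _ w).1 h4 with rfl | rfl | rfl | rfl
      · exact (hO _ _).2 (Or.inr (Or.inl rfl))
      · exact (hO _ _).2 (Or.inl (aa y))
      · exact (hO _ _).2 (Or.inr (Or.inr (Or.inr (ab y).symm)))
      · exact (hO _ _).2 (Or.inr (Or.inr (Or.inl (by rw [← ab, aa]))))
    · rcases (hO _ w).1 h4 with rfl | rfl | rfl | rfl
      · exact (hO _ _).2 (Or.inr (Or.inr (Or.inl rfl)))
      · exact (hO _ _).2 (Or.inr (Or.inr (Or.inr rfl)))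
      · exact (hO _ _).2 (Or.inl (bb y))
      · exact (hO _ _).2 (Or.inr (Or.inl (by rw [bb])))
    · rcases (hO _ w).1 h4 with rfl | rfl | rfl | rfl
      · exact (hO _ _).2 (Or.inr (Or.inr (Or.inr rfl)))
      · exact (hO _ _).2 (Or.inr (Or.inr (Or.inl (aa _))))
      · exact (hO _ _).2 (Or.inr (Or.inl (by rw [← ab, bb])))
      · exact (hO _ _).2 (Or.inl (by rw [← ab (β y), bb, aa]))
  have hequi : ∀ y z, z ∈ O y ↔ σ z ∈ O (σ y) := by
    intro y z
    rw [hO, hO, ← sa, ← sb, ← sa, σ.injective.eq_iff, σ.injective.eq_iff, σ.injective.eq_iff,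
      σ.injective.eq_iff]
  have hOS : ∀ y, α y ≠ y → O y ⊆ α.support := by
    intro y hy z hz
    rw [Perm.mem_support]
    rcases (hO y z).1 hz with rfl | rfl | rfl | rfl
    · exact hy
    · exact fun h3 => hy (α.injective h3)
    · rw [ab]; exact fun h3 => hy (β.injective h3)
    · intro h3
      have h4 := α.injective h3
      rw [ab] at h4
      exact hy (β.injective h4)
  have key : ∀ x, α x ≠ x → σ (σ x) ∈ O x := by
    intro x hx
    have hx' := hS x hx
    have hx'' := hS _ hx'
    by_cases h3 : σ x ∈ O x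
    · exact htrans x (σ x) _ h3 ((hequi x (σ x)).1 h3)
    · have hdisj : Disjoint (O x) (O (σ x)) := by
        rw [Finset.disjoint_left]
        intro z hz hz'
        exact h3 (htrans x z _ hz (hsymm _ _ hz'))
      have hcard : (O x ∪ O (σ x)).card = 8 := by
        rw [Finset.card_union_of_disjoint hdisj, hO4 x hx, hO4 _ hx']
      have heq : O x ∪ O (σ x) = α.support :=
        Finset.eq_of_subset_of_card_le (Finset.union_subset (hOS x hx) (hOS _ hx')) (by rw [hcard, h8])
      have h4 : σ (σ x) ∈ O x ∪ O (σ x) := by rw [heq, Perm.mem_support]; exact hx''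
      rcases Finset.mem_union.1 h4 with h5 | h5
      · exact h5
      · exact absurd ((hequi x (σ x)).2 h5) h3
  have hpow : σ ^ 4 = 1 := by
    ext x
    rw [Perm.one_apply]
    have h4 : (σ ^ 4) x = σ (σ (σ (σ x))) := rfl
    rw [h4]
    by_cases hx : α x = x
    · have h5 : σ x = x := hfix α h8 _ _ (by rw [← sa, hx]) hx
      rw [h5, h5, h5, h5]
    · have h5 := key x hx
      congr 1
      rcases (hO x _).1 h5 with h6 | h6 | h6 | h6
      · rw [h6, h6]
      · rw [h6, sa, sa, h6, aa]
      · rw [h6, sb, sb, h6, bb]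
      · rw [h6, sa, sa, sb, sb, h6, ← ab (β x), bb, aa]
  have h3 : orderOf σ ∣ 2 ^ 2 := orderOf_dvd_of_pow_eq_one (by rw [← hpow]; norm_num)
  obtain ⟨k, -, hk⟩ := (Nat.dvd_prime_pow Nat.prime_two).1 h3
  rw [hk] at ho
  have hk0 : k = 0 := by
    by_contra h0
    exact (Nat.not_even_iff_odd.2 ho) (Nat.even_pow.2 ⟨even_two, h0⟩)
  rw [hk0, pow_zero] at hk
  exact orderOf_eq_one_iff.1 hk

end perm

/-! ### the regular elementary abelian groups -/

/-- bitwise exclusive or on `{0, …, 7}`, on the first eight points of `Fin 8` -/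
def tr8 (i : Fin 8) : Perm (Fin 8) where
  toFun x := ⟨(x : ℕ) ^^^ (i : ℕ), Nat.xor_lt_two_pow (n := 3) x.2 i.2⟩
  invFun x := ⟨(x : ℕ) ^^^ (i : ℕ), Nat.xor_lt_two_pow (n := 3) x.2 i.2⟩
  left_inv x := by
    apply Fin.ext
    show ((x : ℕ) ^^^ (i : ℕ)) ^^^ (i : ℕ) = x
    rw [Nat.xor_assoc, Nat.xor_self, Nat.xor_zero]
  right_inv x := by
    apply Fin.ext
    show ((x : ℕ) ^^^ (i : ℕ)) ^^^ (i : ℕ) = x
    rw [Nat.xor_assoc, Nat.xor_self, Nat.xor_zero]

/-- the function for `Fin 9` -/
def f9 (i : Fin 8) (x : Fin 9) : Fin 9 :=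
  if h : (x : ℕ) < 8 then (tr8 i ⟨x, h⟩).castSucc else x

def tr9 (i : Fin 8) : Perm (Fin 9) where
  toFun := f9 i
  invFun := f9 i
  left_inv := by revert i; decide +kernel
  right_inv := by revert i; decide +kernel

/-- the group of translations -/
def grp {n : ℕ} (t : Fin 8 → Perm (Fin n)) (h1 : t 0 = 1) (h2 : ∀ i j, ∃ k, t i * t j = t k)
    (h3 : ∀ i, t i * t i = 1) : Subgroup (Perm (Fin n)) where
  carrier := Set.range t
  one_mem' := ⟨0, h1⟩
  mul_mem' := by
    rintro _ _ ⟨i, rfl⟩ ⟨j, rfl⟩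
    obtain ⟨k, hk⟩ := h2 i j
    exact ⟨k, hk.symm⟩
  inv_mem' := by
    rintro _ ⟨i, rfl⟩
    exact ⟨i, (inv_of_sq (h3 i)).symm⟩

theorem tr8_zero : tr8 0 = 1 := by decide +kernel
theorem tr8_mul : ∀ i j, ∃ k, tr8 i * tr8 j = tr8 k := by decide +kernel
theorem tr8_sq : ∀ i, tr8 i * tr8 i = 1 := by decide +kernel
theorem tr8_supp : ∀ i, i ≠ 0 → (tr8 i).support.card = 8 := by decide +kernel
theorem tr8_inj : ∀ i j, tr8 i = tr8 j → i = j := by decide +kernel
theorem tr8_sign : ∀ i, Perm.sign (tr8 i) = 1 := by decide +kernel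
theorem tr9_zero : tr9 0 = 1 := by decide +kernel
theorem tr9_mul : ∀ i j, ∃ k, tr9 i * tr9 j = tr9 k := by decide +kernel
theorem tr9_sq : ∀ i, tr9 i * tr9 i = 1 := by decide +kernel
theorem tr9_supp : ∀ i, i ≠ 0 → (tr9 i).support.card = 8 := by decide +kernel
theorem tr9_inj : ∀ i j, tr9 i = tr9 j → i = j := by decide +kernel
theorem tr9_sign : ∀ i, Perm.sign (tr9 i) = 1 := by decide +kernel

theorem exists_grp {n : ℕ} (hn : n = 8 ∨ n = 9) : ∃ E : Subgroup (Perm (Fin n)), Nat.card E = 8 ∧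
    (∀ σ ∈ E, σ * σ = 1) ∧ (∀ σ ∈ E, σ ≠ 1 → σ.support.card = 8) ∧ E ≤ alternatingGroup (Fin n) := by
  have key : ∀ {n : ℕ} (t : Fin 8 → Perm (Fin n)) (h1 : t 0 = 1) (h2 : ∀ i j, ∃ k, t i * t j = t k)
      (h3 : ∀ i, t i * t i = 1) (_ : ∀ i, i ≠ 0 → (t i).support.card = 8)
      (_ : ∀ i j, t i = t j → i = j) (_ : ∀ i, Perm.sign (t i) = 1),
      ∃ E : Subgroup (Perm (Fin n)), Nat.card E = 8 ∧
      (∀ σ ∈ E, σ * σ = 1) ∧ (∀ σ ∈ E, σ ≠ 1 → σ.support.card = 8) ∧ E ≤ alternatingGroup (Fin n) := by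
    intro n t h1 h2 h3 h4 h5 h6
    refine ⟨grp t h1 h2 h3, ?_, ?_, ?_, ?_⟩
    · have h7 : Nat.card (grp t h1 h2 h3) = (Set.range t).ncard := rfl
      rw [h7, Set.ncard_eq_toFinset_card', Set.toFinset_range, Finset.card_image_of_injective _ (fun i j => h5 i j)]
      rfl
    · rintro _ ⟨i, rfl⟩
      exact h3 i
    · rintro _ ⟨i, rfl⟩ hi
      refine h4 i ?_
      rintro rfl
      exact hi h1
    · rintro _ ⟨i, rfl⟩
      exact Perm.mem_alternatingGroup.2 (h6 i)
  rcases hn with rfl | rfl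
  · exact key tr8 tr8_zero tr8_mul tr8_sq tr8_supp tr8_inj tr8_sign
  · exact key tr9 tr9_zero tr9_mul tr9_sq tr9_supp tr9_inj tr9_sign

/-! ### `Good` -/

theorem support_card {n : ℕ} (hn : n = 8 ∨ n = 9) {X : Type*} [Group X] (K : Cover (Fin n) X) {u : X}
    (uu : u * u = 1) (u1 : u ≠ 1) (uz : u ≠ K.z) : (K.π u).support.card = 8 := by
  obtain ⟨h1, m, hm⟩ := K.sq_eq_one_iff.1 uu
  have h2 : (K.π u).support.card ≤ n := by
    have := Finset.card_le_univ (K.π u).support
    rwa [Fintype.card_fin] at this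
  have h3 : (K.π u).support.card ≠ 0 := by
    intro h0
    rw [Finset.card_eq_zero, Perm.support_eq_empty_iff] at h0
    rcases (K.ker u).1 h0 with h4 | h4
    · exact u1 h4
    · exact uz h4
  omega

/-- The double covers of `A₈` and `A₉` are good. -/
theorem good {n : ℕ} (hn : n = 8 ∨ n = 9) {X : Type*} [Group X] (K : Cover (Fin n) X) :
    Good X K.z where
  z_ne := K.z_ne
  zz := K.z_mul_z
  comm := K.z_comm
  one_class u v uu vv u1 uz v1 vz := by
    have hu := support_card hn K uu u1 uz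
    have hv := support_card hn K vv v1 vz
    obtain ⟨g, hg, hg2⟩ := exists_even_conj (K.sq_eq_one_iff.1 uu).1 (K.sq_eq_one_iff.1 vv).1 hu hv
    obtain ⟨w, rfl⟩ := K.exists_lift hg
    have h1 : K.π (w * u * w⁻¹) = K.π v := by rw [map_mul, map_mul, map_inv, hg2]
    rcases K.lift_eq h1 with h2 | h2
    · exact ⟨w, h2⟩
    · have hv1 : K.π v ≠ 1 := by
        intro h3
        rw [h3, Perm.support_one, Finset.card_empty] at hv
        omega
      obtain ⟨w', hw'⟩ := K.exists_conj_mul_z (K.sq_eq_one_iff.1 vv).1 hv1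
      refine ⟨w' * w, ?_⟩
      calc w' * w * u * (w' * w)⁻¹ = w' * (w * u * w⁻¹) * w'⁻¹ := by group
        _ = w' * v * w'⁻¹ * (w' * K.z * w'⁻¹) := by rw [h2]; group
        _ = v := by rw [hw', K.z_comm w', mul_inv_cancel_right, mul_assoc, K.z_mul_z, mul_one]
  fix a b y aa bb ab a1 az b1 bz hab habz hya hyb ho := by
    have hab1 : a * b ≠ 1 := fun h => hab ((mul_eq_one_iff_eq_inv.1 h).trans (inv_of_sq bb))
    have habz' : a * b ≠ K.z := by
      intro h
      apply habz
      calc a = a * (b * b) := by rw [bb, mul_one]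
        _ = a * b * b := by rw [mul_assoc]
        _ = b * K.z := by rw [h, K.z_comm]
    have hab2 : a * b * (a * b) = 1 := by
      calc a * b * (a * b) = a * (b * a) * b := by group
        _ = a * a * (b * b) := by rw [← ab]; group
        _ = 1 := by rw [aa, bb, mul_one]
    have h1 : K.π y = 1 := by
      refine eq_one_of_comm (by omega) (K.sq_eq_one_iff.1 aa).1 (K.sq_eq_one_iff.1 bb).1
        (by rw [← map_mul, ab, map_mul]) (support_card hn K aa a1 az) (support_card hn K bb b1 bz)
        (by rw [← map_mul]; exact support_card hn K hab2 hab1 habz') (by rw [← map_mul, hya, map_mul])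
        (by rw [← map_mul, hyb, map_mul]) (Odd.of_dvd_nat ho (orderOf_map_dvd K.π y))
    rcases (K.ker y).1 h1 with h2 | h2
    · exact h2
    · rw [h2, K.orderOf_z] at ho
      exact absurd ho (by decide)
  four := by
    classical
    obtain ⟨E, hE, hsq, hsupp, hEalt⟩ := exists_grp hn
    have hV2 : ∀ a ∈ E.comap K.π, a * a = 1 := by
      intro a ha
      rw [K.sq_eq_one_iff]
      refine ⟨hsq _ ha, ?_⟩
      by_cases h1 : K.π a = 1
      · rw [h1, Perm.support_one, Finset.card_empty]; exact dvd_zero _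
      · rw [hsupp _ ha h1]
    refine ⟨E.comap K.π, ?_, hV2, ?_, ?_⟩
    · intro a ha b hb
      have h1 := hV2 _ ((E.comap K.π).mul_mem ha hb)
      have h2 := hV2 a ha
      have h3 := hV2 b hb
      have h4 : (a * b)⁻¹ = a * b := inv_of_sq h1
      rw [mul_inv_rev, inv_of_sq h2, inv_of_sq h3] at h4
      exact h4.symm
    · -- the order
      let f : E.comap K.π →* E := (K.π.comp (E.comap K.π).subtype).codRestrict E fun x => x.2
      have hf : ∀ x : E.comap K.π, ((f x : E) : Perm (Fin n)) = K.π x := fun x => rfl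
      have hfs : Function.Surjective f := by
        rintro ⟨σ, hσ⟩
        obtain ⟨x, hx⟩ := K.exists_lift (hEalt hσ)
        exact ⟨⟨x, by rw [mem_comap, hx]; exact hσ⟩, Subtype.ext hx⟩
      have hzE : K.z ∈ E.comap K.π := by rw [mem_comap, K.π_z]; exact E.one_mem
      have hker : (f.ker : Set (E.comap K.π)) = {1, ⟨K.z, hzE⟩} := by
        ext x
        rw [SetLike.mem_coe, MonoidHom.mem_ker, Set.mem_insert_iff, Set.mem_singleton_iff]
        constructor
        · intro hx
          have h1 : K.π x = 1 := by rw [← hf, hx]; rfl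
          rcases (K.ker _).1 h1 with h2 | h2
          · exact Or.inl (Subtype.ext h2)
          · exact Or.inr (Subtype.ext h2)
        · rintro (rfl | rfl)
          · exact map_one f
          · exact Subtype.ext K.π_z
      have hcard : Nat.card f.ker = 2 := by
        have h1 : Nat.card f.ker = (f.ker : Set (E.comap K.π)).ncard := rfl
        rw [h1, hker, Set.ncard_pair]
        exact fun h2 => K.z_ne (congrArg Subtype.val h2).symm
      have h1 := card_mul_index f.ker
      rw [hcard, index_ker, MonoidHom.range_eq_top.2 hfs, card_top, hE] at h1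
      exact h1.symm
    · rw [mem_comap, K.π_z]; exact E.one_mem

end Cfsg.Agent.CoverCore.AltGood
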