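import Cfsg.Agent.CoverCore.Main
import Cfsg.Agent.CoverCore.AltGood
import Cfsg.Agent.StandardComponent.AltAut

/-!
# Involution centralisers which are double covers of `A₈` or `A₉` modulo a group of odd order

`eq_top`: a finite group without normal subgroups of odd order which has a normal subgroup `A_n`, `n ≥ 7`, of odd index
is `A_n`.
`end_of_quot`: the structure of `C_G(z)` in a finite simple group.
-/

set_option autoImplicit false

namespace Cfsg.Agent.CoverCore.AltEnd

open Subgroup Cfsg Equiv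
open Cfsg.Agent.StandardComponent.CentCore
open Cfsg.Agent.CoverCore.Abs Cfsg.Agent.CoverCore.HasCover Cfsg.Agent.CoverCore.Exists
open Cfsg.Agent.CoverCore.Functor Cfsg.Agent.CoverCore.Main
open Cfsg.Agent.SporadicRecognition.AltCover
open scoped commutatorElement

universe u

/-- A normal alternating subgroup containing a Sylow 2-subgroup is everything. -/
theorem eq_top {K : Type*} [Group K] [Finite K] (hO : oddCore K = ⊥) (T : Sylow 2 K)
    {N : Subgroup K} (hN : N.Normal) (hTN : (T : Subgroup K) ≤ N) {n : ℕ} (hn : 7 ≤ n)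
    (e : N ≃* alternatingGroup (Fin n)) : N = ⊤ := by
  classical
  have : Fact (Nat.Prime 2) := ⟨Nat.prime_two⟩
  obtain ⟨m, rfl⟩ : ∃ m, n = m + 2 := ⟨n - 2, by omega⟩
  obtain ⟨ψ, hψ⟩ := Cfsg.Agent.StandardComponent.AltAut.exists_autHom (m + 2) hn
  have huniq := fun {σ τ : Perm (Fin (m + 2))} (h : ∀ x : alternatingGroup (Fin (m + 2)),
    σ * x * σ⁻¹ = τ * x * τ⁻¹) => Cfsg.Agent.StandardComponent.AltAut.conj_unique (m := m) (by omega) h
  -- the centre of `N`
  have hcen : ∀ x ∈ N, (∀ y ∈ N, x * y = y * x) → x = 1 := by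
    intro x hx h
    have h1 : (((e ⟨x, hx⟩ : alternatingGroup (Fin (m + 2))) : Perm (Fin (m + 2)))) = 1 := by
      apply huniq
      intro y
      obtain ⟨y', rfl⟩ := e.surjective y
      have h2 : e ⟨x, hx⟩ * e y' = e y' * e ⟨x, hx⟩ := by
        rw [← map_mul, ← map_mul]
        congr 1
        exact Subtype.ext (h y' y'.2)
      have h3 := congrArg (Subtype.val : alternatingGroup (Fin (m + 2)) → Perm (Fin (m + 2))) h2
      rw [Subgroup.coe_mul, Subgroup.coe_mul] at h3
      rw [h3, mul_inv_cancel_right, one_mul, inv_one, mul_one]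
    have h2 : e ⟨x, hx⟩ = 1 := Subtype.ext h1
    have h3 : (⟨x, hx⟩ : N) = 1 := (map_eq_one_iff e e.injective).1 h2
    exact congrArg Subtype.val h3
  -- `C_K(N) = 1`
  have hC : centralizer (N : Set K) = ⊥ := by
    have h1 : Odd (Nat.card (centralizer (N : Set K))) := by
      by_contra hcon
      rw [Nat.not_odd_iff_even, even_iff_two_dvd] at hcon
      obtain ⟨c, hc⟩ := exists_prime_orderOf_dvd_card' 2 hcon
      have hcp : IsPGroup 2 (zpowers (c : K)) := by
        rw [IsPGroup.iff_card]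
        exact ⟨1, by rw [Nat.card_zpowers, Subgroup.orderOf_coe, hc, pow_one]⟩
      obtain ⟨P, hP⟩ := hcp.exists_le_sylow
      obtain ⟨g, hg⟩ := MulAction.exists_smul_eq K T P
      have hcN : (c : K) ∈ N := by
        have h2 : (c : K) ∈ (P : Subgroup K) := hP (mem_zpowers _)
        rw [← hg] at h2
        obtain ⟨t, ht, htc⟩ := h2
        have h3 : g * t * g⁻¹ = (c : K) := htc
        rw [← h3]
        exact hN.conj_mem t (hTN ht) g
      have h2 := hcen c hcN fun y hy => (mem_centralizer_iff.1 c.2 y hy).symm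
      rw [← Subgroup.orderOf_coe, h2, orderOf_one] at hc
      omega
    have h2 : (centralizer (N : Set K)).Normal := normal_centralizer (H := N)
    have h3 := le_oddCore h2 h1
    rw [hO] at h3
    exact eq_bot_iff.2 h3
  -- the homomorphism to the symmetric group
  let c : K →* MulAut N := MulAut.conjNormal
  let f : MulAut N ≃* MulAut (alternatingGroup (Fin (m + 2))) := MulAut.congr e
  let Ψ : K →* Perm (Fin (m + 2)) := ψ.comp (f.toMonoidHom.comp c)
  have hΨ : ∀ (k : K) (x : N), ((e ⟨k * x * k⁻¹, hN.conj_mem x x.2 k⟩ : alternatingGroup (Fin (m + 2))) :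
      Perm (Fin (m + 2))) = Ψ k * e x * (Ψ k)⁻¹ := by
    intro k x
    have h1 := hψ (f (c k)) (e x)
    have h2 : (f (c k)) (e x) = e ⟨k * x * k⁻¹, hN.conj_mem x x.2 k⟩ := by
      change e (c k (e.symm (e x))) = _
      rw [e.symm_apply_apply]
      congr 1
    rw [h2] at h1
    exact h1
  have hΨN : ∀ x : N, Ψ x = e x := by
    intro x
    apply huniq
    intro y
    obtain ⟨y', rfl⟩ := e.surjective y
    rw [← hΨ x y']
    have h1 : (⟨(x : K) * y' * (x : K)⁻¹, hN.conj_mem y' y'.2 x⟩ : N) = x * y' * x⁻¹ := rfl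
    rw [h1, map_mul, map_mul, map_inv]
    rfl
  -- all images are even
  let s : K →* ℤˣ := Perm.sign.comp Ψ
  have hker : s.ker = ⊤ := by
    have h1 : N ≤ s.ker := by
      intro x hx
      rw [MonoidHom.mem_ker]
      change Perm.sign (Ψ x) = 1
      rw [hΨN ⟨x, hx⟩]
      exact Perm.mem_alternatingGroup.1 (e ⟨x, hx⟩).2
    have h2 : s.ker.index ∣ 2 := by
      rw [index_ker]
      have h3 := card_subgroup_dvd_card s.range
      have h4 : Nat.card ℤˣ = 2 := by rw [Nat.card_eq_fintype_card]; rfl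
      rwa [h4] at h3
    have h3 : ¬ 2 ∣ s.ker.index := by
      intro h4
      have h5 : (T : Subgroup K).index = (T : Subgroup K).relIndex s.ker * s.ker.index :=
        (relIndex_mul_index (hTN.trans h1)).symm
      have h6 := T.not_dvd_index
      exact h6 (h5 ▸ Dvd.dvd.mul_left h4 _)
    rcases (Nat.dvd_prime Nat.prime_two).1 h2 with h4 | h4
    · exact index_eq_one.1 h4
    · exact absurd (by rw [h4]) h3
  rw [eq_top_iff]
  intro k _
  have h1 : Ψ k ∈ alternatingGroup (Fin (m + 2)) := by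
    have h2 : k ∈ s.ker := by rw [hker]; exact mem_top _
    exact Perm.mem_alternatingGroup.2 h2
  obtain ⟨x, hx⟩ := e.surjective ⟨Ψ k, h1⟩
  have h2 : k * (x : K)⁻¹ ∈ centralizer (N : Set K) := by
    rw [mem_centralizer_iff]
    intro y hy
    have h3 : Ψ (k * (x : K)⁻¹) = 1 := by
      rw [map_mul, map_inv, hΨN x, hx, mul_inv_cancel]
    have h4 := hΨ (k * (x : K)⁻¹) ⟨y, hy⟩
    rw [h3, one_mul, inv_one, mul_one] at h4
    have h5 := congrArg Subtype.val (e.injective (Subtype.ext h4))
    have h6 : k * (x : K)⁻¹ * y * (k * (x : K)⁻¹)⁻¹ = y := h5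
    exact (mul_inv_eq_iff_eq_mul.1 h6).symm
  rw [hC, mem_bot, mul_inv_eq_one] at h2
  rw [h2]
  exact x.2

/-- Recognition of `McL` -/
def HMcL : Prop :=
  ∀ (G : Type u) [Group G] [Finite G] (t : G) (ht : t ∈ centralizer ({t} : Set G))
    (π : centralizer ({t} : Set G) →* alternatingGroup (Fin 8)),
    IsCover π (⟨t, ht⟩ : centralizer ({t} : Set G)) →
    (∃ g : G, g * t * g⁻¹ ≠ t ∧ g * t * g⁻¹ * t = t * (g * t * g⁻¹)) → IsMcL G

/-- the case of degree nine -/
def HNine : Prop :=
  ∀ (G : Type u) [Group G] [Finite G] (t : G) (ht : t ∈ centralizer ({t} : Set G))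
    (π : centralizer ({t} : Set G) →* alternatingGroup (Fin 9)),
    IsCover π (⟨t, ht⟩ : centralizer ({t} : Set G)) →
    (∃ g : G, g * t * g⁻¹ ≠ t ∧ g * t * g⁻¹ * t = t * (g * t * g⁻¹)) → False

/-- a central involution which is a commutator: the extension is not split -/
theorem isCover_of {C : Type*} [Group C] {n : ℕ} {π : C →* alternatingGroup (Fin n)} {z : C}
    (z_ne : z ≠ 1) (zz : z * z = 1) (z_comm : ∀ x, x * z = z * x) (surj : Function.Surjective π)
    (ker : ∀ x, π x = 1 ↔ x = 1 ∨ x = z) {a b : C} (hab : ⁅a, b⁆ = z) : IsCover π z where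
  z_ne := z_ne
  z_mul := zz
  z_comm := z_comm
  surj := surj
  ker := ker
  nonsplit := by
    intro s hs
    have h1 : ∀ x : C, x = s (π x) ∨ x = s (π x) * z := by
      intro x
      have h2 : π ((s (π x))⁻¹ * x) = 1 := by rw [map_mul, map_inv, hs, inv_mul_cancel]
      rcases (ker _).1 h2 with h3 | h3
      · exact Or.inl (inv_mul_eq_one.1 h3).symm
      · exact Or.inr (inv_mul_eq_iff_eq_mul.1 h3)
    have h2 : ∀ x : C, ∃ k : C, x = s (π x) * k ∧ (∀ y, y * k = k * y) := by
      intro x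
      rcases h1 x with h3 | h3
      · exact ⟨1, by rw [mul_one]; exact h3, fun y => by rw [mul_one, one_mul]⟩
      · exact ⟨z, h3, z_comm⟩
    obtain ⟨k, hk, hk'⟩ := h2 a
    obtain ⟨l, hl, hl'⟩ := h2 b
    have h3 : ⁅a, b⁆ = s ⁅π a, π b⁆ := by
      rw [map_commutatorElement, commutatorElement_def, commutatorElement_def]
      calc a * b * a⁻¹ * b⁻¹ = s (π a) * k * (s (π b) * l) * (s (π a) * k)⁻¹ * (s (π b) * l)⁻¹ := by
            rw [← hk, ← hl]
        _ = s (π a) * (k * s (π b)) * (l * (k⁻¹ * (s (π a))⁻¹)) * (l⁻¹ * (s (π b))⁻¹) := by group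
        _ = s (π a) * (s (π b) * k) * ((k⁻¹ * (s (π a))⁻¹) * l) * (l⁻¹ * (s (π b))⁻¹) := by
            rw [← hk' (s (π b)), ← hl' (k⁻¹ * (s (π a))⁻¹)]
        _ = s (π a) * s (π b) * (s (π a))⁻¹ * (s (π b))⁻¹ := by group
    rw [hab] at h3
    have h4 : π z = 1 := (ker z).2 (Or.inr rfl)
    have h5 : π z = ⁅π a, π b⁆ := by rw [h3, hs]
    rw [h4] at h5
    rw [← h5, map_one] at h3
    exact z_ne h3

theorem oddCore_eq_bot_of_simple {G : Type*} [Group G] [Finite G] [IsSimpleGroup G] {z : G}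
    (hz : orderOf z = 2) : oddCore G = ⊥ := by
  rcases (Lib.Cores.pPrimeCore_normal (G := G) 2).eq_bot_or_eq_top with h | h
  · exact h
  · exfalso
    have h1 : Odd (Nat.card (oddCore G)) := oddCore_odd
    rw [show oddCore G = ⊤ from h, card_top] at h1
    have h2 : 2 ∣ Nat.card G := by rw [← hz]; exact orderOf_dvd_natCard z
    exact not_two_dvd h1 h2

/-- **The end.** `G` simple, `z` a non-isolated involution, `C_G(z)` modulo `O(C_G(z))⟨z⟩` is a group `K` without
normal subgroups of odd order with a normal subgroup `A₈` or `A₉` of odd index, `z` a commutator in `C_G(z)`. -/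
theorem isMcL (hFT : FT.{u}) (hSF : SFT.{u}) (hSE : SECore.{u}) (hM : HMcL.{u}) (h9 : HNine.{u})
    {G : Type u} [Group G] [Finite G] [IsSimpleGroup G] {z : G} (hz : orderOf z = 2) (hnon : NonIso z)
    {C : Subgroup G} (hC : C = centralizer ({z} : Set G)) (hzC : z ∈ C)
    {K : Type*} [Group K] [Finite K] {F : C →* K} (hF : Function.Surjective F)
    (hker : ∀ x, F x = 1 ↔ x ∈ oddCore C ∨ x * ⟨z, hzC⟩ ∈ oddCore C) (hO : oddCore K = ⊥)
    (T : Sylow 2 K) {N : Subgroup K} (hN : N.Normal) (hTN : (T : Subgroup K) ≤ N) {n : ℕ}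
    (hn : n = 8 ∨ n = 9) (e : N ≃* alternatingGroup (Fin n)) {a b : C} (hab : ⁅a, b⁆ = ⟨z, hzC⟩) :
    IsMcL G := by
  classical
  subst hC
  have hNtop := eq_top hO T hN hTN (by omega) e
  have zz : z * z = 1 := by rw [← pow_two, ← hz, pow_orderOf_eq_one]
  have z1 : z ≠ 1 := by
    rintro rfl
    rw [orderOf_one] at hz
    omega
  set z' : centralizer ({z} : Set G) := ⟨z, hzC⟩ with hz'
  have zz' : z' * z' = 1 := Subtype.ext zz
  have z1' : z' ≠ 1 := fun h => z1 (congrArg Subtype.val h)
  have zc' : ∀ x, x * z' = z' * x := fun x => Subtype.ext (mem_cent.1 x.2)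
  -- `π : C(z) → A_n`
  let π : centralizer ({z} : Set G) →* alternatingGroup (Fin n) :=
    e.toMonoidHom.comp ((MonoidHom.id K).codRestrict N (fun x => by rw [hNtop]; exact mem_top _) |>.comp F)
  have hπ : ∀ x, π x = 1 ↔ F x = 1 := by
    intro x
    change e ⟨F x, _⟩ = 1 ↔ _
    rw [map_eq_one_iff e e.injective]
    exact ⟨fun h => congrArg Subtype.val h, fun h => Subtype.ext h⟩
  have hπs : Function.Surjective π := by
    intro y
    obtain ⟨⟨k, hk⟩, rfl⟩ := e.surjective y
    obtain ⟨x, rfl⟩ := hF k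
    exact ⟨x, rfl⟩
  have hπk : ∀ x, π x = 1 ↔ x ∈ oddCore (centralizer ({z} : Set G)) ∨
      x * z' ∈ oddCore (centralizer ({z} : Set G)) := fun x => (hπ x).trans (hker x)
  have hnor : (oddCore (centralizer ({z} : Set G))).Normal := Lib.Cores.pPrimeCore_normal 2
  -- the cover modulo the core
  let q := QuotientGroup.mk' (oddCore (centralizer ({z} : Set G)))
  have hzO : z' ∉ oddCore (centralizer ({z} : Set G)) := fun h =>
    z1' (eq_one_of_odd_of_sq (odd_orderOf oddCore_odd h) zz')
  let πq : centralizer ({z} : Set G) ⧸ oddCore (centralizer ({z} : Set G)) →* alternatingGroup (Fin n) :=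
    QuotientGroup.lift _ π fun x hx => (hπk x).2 (Or.inl hx)
  have hπq : ∀ x, πq (q x) = π x := fun x => rfl
  have hq1 : ∀ x, q x = 1 ↔ x ∈ oddCore (centralizer ({z} : Set G)) := fun x =>
    QuotientGroup.eq_one_iff x
  have hqz : q z' * q z' = 1 := by rw [← map_mul, zz', map_one]
  have hcov : IsCover πq (q z') := by
    refine isCover_of (a := q a) (b := q b) ?_ hqz ?_ ?_ ?_ ?_
    · rw [Ne, hq1]; exact hzO
    · intro x
      obtain ⟨x, rfl⟩ := QuotientGroup.mk'_surjective _ x
      rw [← map_mul, ← map_mul, zc']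
    · intro y
      obtain ⟨x, rfl⟩ := hπs y
      exact ⟨q x, rfl⟩
    · intro x
      obtain ⟨x, rfl⟩ := QuotientGroup.mk'_surjective _ x
      change πq (q x) = 1 ↔ q x = 1 ∨ q x = q z'
      rw [hπq, hπk, hq1]
      have h1 : q x = q z' ↔ x * z' ∈ oddCore (centralizer ({z} : Set G)) := by
        rw [← hq1, map_mul]
        constructor
        · intro h2
          rw [h2, hqz]
        · intro h2
          rw [mul_eq_one_iff_eq_inv.1 h2, inv_of_sq hqz]
      rw [h1]
    · rw [← map_commutatorElement, hab]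
  let Kc := Cfsg.Agent.SporRec.TwoAn.ofIsCover (by omega) hcov
  have hgood : Good _ (q z') := AltGood.good hn Kc
  -- the interface
  have hmem : ∀ x : G, x ∈ centralizer ({z} : Set G) ↔ x * z = z * x := fun x => mem_cent
  let p : G → centralizer ({z} : Set G) ⧸ oddCore (centralizer ({z} : Set G)) := fun x =>
    if h : x ∈ centralizer ({z} : Set G) then q ⟨x, h⟩ else 1
  have hp : ∀ (x : G) (h : x * z = z * x), p x = q ⟨x, (hmem x).2 h⟩ := fun x h =>
    dif_pos ((hmem x).2 h)
  have hhas : Has (q z') z p := by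
    refine ⟨z1, zz, ?_, ?_, ?_, ?_⟩
    · intro x y hx hy
      rw [hp x hx, hp y hy, hp (x * y) (comm_mul hx hy), ← map_mul]
      rfl
    · intro y
      obtain ⟨x, rfl⟩ := QuotientGroup.mk'_surjective _ y
      exact ⟨x, mem_cent.1 x.2, hp x (mem_cent.1 x.2)⟩
    · intro x hx h1
      rw [hp x hx, hq1] at h1
      have h2 := odd_orderOf oddCore_odd h1
      rwa [Subgroup.orderOf_mk] at h2
    · exact hp z rfl
  -- the theorem
  have hOG := oddCore_eq_bot_of_simple hz
  have hcore := main hFT hSF hSE hgood (Nat.card G + 1) G (Nat.lt_succ_self _) z p hhas hnon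
  rw [hOG] at hcore
  have hOC : oddCore (centralizer ({z} : Set G)) = ⊥ := by
    rw [eq_bot_iff]
    intro x hx
    have h1 : (x : G) ∈ centralizerPPrimeCore 2 z := ⟨x, hx, rfl⟩
    exact Subtype.ext (mem_bot.1 (hcore h1))
  -- the centraliser is the cover
  have hcov' : IsCover π z' := by
    refine isCover_of z1' zz' zc' hπs ?_ hab
    intro x
    rw [hπk, hOC, mem_bot, mem_bot]
    have h1 : x * z' = 1 ↔ x = z' := by
      rw [mul_eq_one_iff_eq_inv, inv_of_sq zz']
    rw [h1]
  rcases hn with rfl | rfl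
  · exact hM G z hzC π hcov' hnon
  · exact (h9 G z hzC π hcov' hnon).elim

end Cfsg.Agent.CoverCore.AltEnd
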