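import Cfsg.Agent.CoverCore.AltEnd
import Cfsg.Agent.SporRec.TwoNine.Main

/-!
# `HNine`
-/

set_option autoImplicit false

open Cfsg Subgroup

universe u

namespace Cfsg.Agent.CoverCore.InstNine

/-- no involution centraliser `2.A₉` with a non-isolated involution -/
theorem hNine : AltEnd.HNine.{u} := by
  intro G _ _ t ht π h hfus
  obtain ⟨g, hg1, hg2⟩ := hfus
  have tt : t * t = 1 := congrArg Subtype.val h.z_mul
  have t1 : t ≠ 1 := fun h1 => h.z_ne (Subtype.ext h1)
  refine SporRec.TwoNine.Main.nine_ten (Or.inl rfl) h (u := g * t * g⁻¹) ?_ ?_ hg1 hg2 ⟨g, rfl⟩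
  · calc g * t * g⁻¹ * (g * t * g⁻¹) = g * (t * t) * g⁻¹ := by group
      _ = 1 := by rw [tt]; group
  · intro h1
    apply t1
    calc t = g⁻¹ * (g * t * g⁻¹) * g := by group
      _ = 1 := by rw [h1]; group

end Cfsg.Agent.CoverCore.InstNine
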