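import Cfsg.Agent.CoverCore.AltEnd
import Cfsg.Agent.SignalizersComponents.SolFunctorTwo

/-!
# `SFT`
-/

set_option autoImplicit false

open Cfsg Subgroup

universe u

namespace Cfsg.Agent.CoverCore.InstSF

/-- the solvable signalizer functor theorem for the prime 2 -/
theorem sft : Functor.SFT.{u} := fun _ _ _ A h1 h2 h3 θ h4 h5 h6 h7 h8 =>
  SignalizersComponents.SolFunctorTwo.solvable_signalizer_functor_two A h1 h2 h3 θ h4 h5 h6 h7 h8

end Cfsg.Agent.CoverCore.InstSF
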