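import Cfsg.Agent.CoverCore.InstMcL
import Cfsg.Agent.CoverCore.InstNine
import Cfsg.Agent.CoverCore.InstSF
import Cfsg.Agent.S0205
import Cfsg.Agent.S1221

/-!
# The hypotheses of `LFourB.McLEnd.main` (heavy imports; only for the final file)
-/

set_option autoImplicit false

universe u

namespace Cfsg.Agent.CoverCore.Discharge

/-- the odd order theorem -/
theorem ft : Functor.FT.{u} := fun _ _ _ h => Cfsg.Agent.S0205.result h

/-- S1221 -/
theorem seCore : Main.SECore.{u} := fun _ _ _ H hH => Cfsg.Agent.S1221.result H hH

end Cfsg.Agent.CoverCore.Discharge
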