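import Cfsg.Agent.CoverCore.HasCover

/-!
# The interface `Has`: the group `V`, fusion of involutions, quotients
-/

set_option autoImplicit false

namespace Cfsg.Agent.CoverCore.Exists

open Subgroup Cfsg Cfsg.Agent.StandardComponent.CentCore
open Cfsg.Agent.CoverCore.Abs Cfsg.Agent.CoverCore.HasCover

section basic

variable {X : Type*} [Group X] {ζ : X} {G : Type*} [Group G] {z : G} {p : G → X}

/-- the involution `z` commutes with another conjugate -/
def NonIso (z : G) : Prop := ∃ g : G, g * z * g⁻¹ ≠ z ∧ g * z * g⁻¹ * z = z * (g * z * g⁻¹)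

/-- If `z` is not isolated, all involutions of `C(z)` are conjugate to `z`. -/
theorem exists_conj_z (hX : Good X ζ) (h : Has ζ z p) (hn : NonIso z) {t : G} (ht : t * z = z * t)
    (tt : t * t = 1) (t1 : t ≠ 1) : ∃ g : G, g * z * g⁻¹ = t := by
  by_cases htz : t = z
  · exact ⟨1, by rw [htz]; group⟩
  obtain ⟨g, hg1, hg2⟩ := hn
  set u := g * z * g⁻¹ with hu
  have uu : u * u = 1 := by
    rw [hu]
    calc g * z * g⁻¹ * (g * z * g⁻¹) = g * (z * z) * g⁻¹ := by group
      _ = 1 := by rw [h.zz]; group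
  have u1 : u ≠ 1 := by
    intro h1
    apply h.z_ne
    calc z = g⁻¹ * u * g := by rw [hu]; group
      _ = 1 := by rw [h1]; group
  have hp : ∀ {s : G}, s * z = z * s → s * s = 1 → p s * p s = 1 := fun {s} hs ss => by
    rw [← h.mul hs hs, ss, h.one]
  obtain ⟨w, hw⟩ := hX.one_class (p u) (p t) (hp hg2 uu) (hp ht tt)
    (fun h1 => u1 (h.eq_one_of_sq hg2 h1 uu)) (fun h1 => hg1 (h.eq_z hg2 h1 uu hX.zz))
    (fun h1 => t1 (h.eq_one_of_sq ht h1 tt)) (fun h1 => htz (h.eq_z ht h1 tt hX.zz))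
  obtain ⟨c, -, hc2⟩ := h.exists_conj hg2 ht uu tt hw
  exact ⟨c * g, by rw [← hc2, hu]; group⟩

/-- two involutions of `C(z)`, different from `z`, are conjugate in `C(z)` -/
theorem exists_conj_cent (hX : Good X ζ) (h : Has ζ z p) {s t : G} (hs : s * z = z * s)
    (ss : s * s = 1) (s1 : s ≠ 1) (sz : s ≠ z) (ht : t * z = z * t)
    (tt : t * t = 1) (t1 : t ≠ 1) (tz : t ≠ z) : ∃ c : G, c * z = z * c ∧ c * s * c⁻¹ = t := by
  have hp : ∀ {s : G}, s * z = z * s → s * s = 1 → p s * p s = 1 := fun {s} hs ss => by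
    rw [← h.mul hs hs, ss, h.one]
  obtain ⟨w, hw⟩ := hX.one_class (p s) (p t) (hp hs ss) (hp ht tt)
    (fun h1 => s1 (h.eq_one_of_sq hs h1 ss)) (fun h1 => sz (h.eq_z hs h1 ss hX.zz))
    (fun h1 => t1 (h.eq_one_of_sq ht h1 tt)) (fun h1 => tz (h.eq_z ht h1 tt hX.zz))
  exact h.exists_conj hs ht ss tt hw

/-- The elementary abelian group of order 16 in `G`. -/
theorem exists_v [Finite G] (hX : Good X ζ) (h : Has ζ z p) : ∃ V : Subgroup G, ESixteen V ∧ z ∈ V := by
  classical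
  have : Fact (Nat.Prime 2) := ⟨Nat.prime_two⟩
  obtain ⟨V₀, hc, hs, hcard, hζ⟩ := hX.four
  have hfin : Finite V₀ := Nat.finite_of_card_ne_zero (by omega)
  let K : Subgroup (centralizer ({z} : Set G)) := V₀.comap h.hom
  let f : K →* V₀ := (h.hom.comp K.subtype).codRestrict V₀ fun x => x.2
  have hf : ∀ x : K, ((f x : V₀) : X) = p (x : centralizer ({z} : Set G)) := fun x => rfl
  have hfs : Function.Surjective f := by
    rintro ⟨a, ha⟩
    obtain ⟨x, hx⟩ := h.surjective a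
    exact ⟨⟨x, by rw [mem_comap, hx]; exact ha⟩, Subtype.ext hx⟩
  obtain ⟨P⟩ : Nonempty (Sylow 2 K) := inferInstance
  -- the image of `P` is everything
  have hV₀ : IsPGroup 2 V₀ := by
    rw [IsPGroup.iff_card]; exact ⟨4, by rw [hcard]; norm_num⟩
  have himg : (P : Subgroup K).map f = ⊤ := by
    have h1 := (P.mapSurjective hfs).is_maximal' (Q := ⊤) (by
      rw [IsPGroup.iff_card]
      exact ⟨4, by rw [card_top, hcard]; norm_num⟩) le_top
    have h2 : ((P.mapSurjective hfs : Sylow 2 V₀) : Subgroup V₀) = (P : Subgroup K).map f := rfl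
    rw [← h2]; exact h1.symm
  have hodd : ∀ x ∈ (P : Subgroup K), f x = 1 → x = 1 := by
    intro x hx hfx
    have h1 : p (x : centralizer ({z} : Set G)) = 1 := by rw [← hf, hfx]; rfl
    have h2 := h.odd (mem_cent.1 (x : centralizer ({z} : Set G)).2) h1
    have h3 : orderOf x = orderOf (((x : centralizer ({z} : Set G)) : G)) := by
      rw [Subgroup.orderOf_coe, Subgroup.orderOf_coe]
    rw [← h3] at h2
    obtain ⟨k, hk⟩ := (IsPGroup.iff_orderOf.1 P.isPGroup') ⟨x, hx⟩
    rw [Subgroup.orderOf_mk] at hk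
    rw [hk] at h2
    have hk0 : k = 0 := by
      by_contra h0
      exact (Nat.not_even_iff_odd.2 h2) (Nat.even_pow.2 ⟨even_two, h0⟩)
    rw [hk0, pow_zero, orderOf_eq_one_iff] at hk
    exact hk
  have hinj : Set.InjOn f (P : Subgroup K) := by
    intro x hx y hy hxy
    have h1 := hodd (x * y⁻¹) (P.mul_mem hx (P.inv_mem hy)) (by
      rw [map_mul, map_inv, hxy, mul_inv_cancel])
    exact mul_inv_eq_one.1 h1
  let i : K →* G := (centralizer ({z} : Set G)).subtype.comp K.subtype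
  have hi : Function.Injective i := by
    intro x y hxy
    exact Subtype.ext (Subtype.ext hxy)
  refine ⟨(P : Subgroup K).map i, ⟨?_, ?_, ?_⟩, ?_⟩
  · rintro _ ⟨x, hx, rfl⟩ _ ⟨y, hy, rfl⟩
    rw [← map_mul, ← map_mul]
    congr 1
    refine hinj (P.mul_mem hx hy) (P.mul_mem hy hx) ?_
    rw [map_mul, map_mul]
    exact Subtype.ext (hc _ (f x).2 _ (f y).2)
  · rintro _ ⟨x, hx, rfl⟩
    rw [← map_mul, ← map_one i]
    congr 1
    refine hinj (P.mul_mem hx hx) P.one_mem ?_
    rw [map_mul, map_one]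
    exact Subtype.ext (hs _ (f x).2)
  · rw [card_map_of_injective hi]
    have h1 : f '' ((P : Subgroup K) : Set K) = Set.univ := by
      have h2 : (((P : Subgroup K).map f : Subgroup V₀) : Set V₀) = f '' ((P : Subgroup K) : Set K) := rfl
      rw [← h2, himg]; rfl
    have h3 : (f '' ((P : Subgroup K) : Set K)).ncard = ((P : Subgroup K) : Set K).ncard :=
      Set.InjOn.ncard_image hinj
    have h4 : Nat.card (P : Subgroup K) = ((P : Subgroup K) : Set K).ncard := rfl
    rw [h4, ← h3, h1, Set.ncard_univ]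
    exact hcard
  · have h1 : (⟨ζ, hζ⟩ : V₀) ∈ (P : Subgroup K).map f := by rw [himg]; exact mem_top _
    obtain ⟨x, hx, hfx⟩ := h1
    refine ⟨x, hx, ?_⟩
    have h2 : p (i x) = ζ := by
      have := congrArg Subtype.val hfx
      exact this
    have h3 : x * x = 1 := by
      refine hinj (P.mul_mem hx hx) P.one_mem ?_
      rw [map_mul, map_one]
      exact Subtype.ext (hs _ (f x).2)
    have h4 : i x * i x = 1 := by rw [← map_mul, h3, map_one]
    exact h.eq_z (mem_cent.1 (x : centralizer ({z} : Set G)).2) h2 h4 hX.zz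

/-! ### subgroups -/

/-- restriction to a subgroup which covers `X` -/
theorem Has.sub (h : Has ζ z p) (N : Subgroup G) (hz : z ∈ N)
    (hcov : ∀ a : X, ∃ x ∈ N, x * z = z * x ∧ p x = a) : Has ζ (⟨z, hz⟩ : N) (fun x : N => p x) where
  z_ne h1 := h.z_ne (congrArg Subtype.val h1)
  zz := Subtype.ext h.zz
  mul {x y} hx hy := h.mul (congrArg Subtype.val hx) (congrArg Subtype.val hy)
  surj a := by
    obtain ⟨x, hx, h1, h2⟩ := hcov a
    exact ⟨⟨x, hx⟩, Subtype.ext h1, h2⟩
  odd {x} hx h1 := by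
    rw [← Subgroup.orderOf_coe]
    exact h.odd (congrArg Subtype.val hx) h1
  pz := h.pz

/-! ### quotients -/

variable (K : Subgroup G) [K.Normal]

/-- lifting elements which commute with the image of `z` -/
theorem exists_lift [Finite G] (hz : z * z = 1) (hK : Odd (Nat.card K)) {x : G}
    (hx : (x : G ⧸ K) * (z : G ⧸ K) = (z : G ⧸ K) * (x : G ⧸ K)) :
    ∃ y : G, y * z = z * y ∧ (y : G ⧸ K) = (x : G ⧸ K) := by
  set t := x * z * x⁻¹ with ht
  have tt : t * t = 1 := by
    rw [ht]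
    calc x * z * x⁻¹ * (x * z * x⁻¹) = x * (z * z) * x⁻¹ := by group
      _ = 1 := by rw [hz]; group
  have htz : t * z ∈ K := by
    rw [← QuotientGroup.eq_one_iff]
    have h1 : ((t * z : G) : G ⧸ K) = (x : G ⧸ K) * z * (x : G ⧸ K)⁻¹ * z := by
      rw [ht]; rfl
    rw [h1, hx]
    have h2 : (z : G ⧸ K) * z = 1 := by
      rw [← QuotientGroup.mk_mul, hz, QuotientGroup.mk_one]
    calc (z : G ⧸ K) * x * (x : G ⧸ K)⁻¹ * z = z * z := by group
      _ = 1 := h2
  obtain ⟨k, hk, hk2⟩ := exists_conj_of_odd tt hz (odd_orderOf hK htz)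
  have hkK : k ∈ K := (zpowers_le.2 htz) hk
  refine ⟨k * x, ?_, ?_⟩
  · have h1 : k * x * z * (k * x)⁻¹ = z := by
      calc k * x * z * (k * x)⁻¹ = k * (x * z * x⁻¹) * k⁻¹ := by group
        _ = z := hk2
    exact mul_inv_eq_iff_eq_mul.1 h1
  · rw [QuotientGroup.mk_mul, (QuotientGroup.eq_one_iff k).2 hkK, one_mul]

open Classical in
/-- the function on the quotient -/
noncomputable def quo (z : G) (p : G → X) (q : G ⧸ K) : X :=
  if h : ∃ y : G, y * z = z * y ∧ (y : G ⧸ K) = q then p h.choose else 1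

theorem quo_eq [Finite G] [Finite X] (hX : Good X ζ) (h : Has ζ z p) (hK : Odd (Nat.card K)) {y : G}
    (hy : y * z = z * y) : quo K z p (y : G ⧸ K) = p y := by
  have hex : ∃ y' : G, y' * z = z * y' ∧ (y' : G ⧸ K) = (y : G ⧸ K) := ⟨y, hy, rfl⟩
  rw [quo, dif_pos hex]
  obtain ⟨h1, h2⟩ := hex.choose_spec
  set y' := hex.choose
  have h3 : y'⁻¹ * y ∈ K ⊓ centralizer {z} :=
    ⟨QuotientGroup.eq.1 h2, mem_cent.2 (comm_mul (comm_inv h1) hy)⟩
  have h4 := h.eq_one_of_normal hX (Y := K ⊓ centralizer {z})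
    (Odd.of_dvd_nat hK (card_dvd_of_le inf_le_left)) (fun x hx => mem_cent.1 hx.2)
    (fun v hv x hx => ⟨‹K.Normal›.conj_mem x hx.1 v,
      mem_cent.2 (comm_mul (comm_mul hv (mem_cent.1 hx.2)) (comm_inv hv))⟩) _ h3
  rw [h.mul (comm_inv h1) hy, h.inv h1, inv_mul_eq_one] at h4
  exact h4

theorem Has.quotient [Finite G] [Finite X] (hX : Good X ζ) (h : Has ζ z p) (hK : Odd (Nat.card K)) :
    Has ζ (z : G ⧸ K) (quo K z p) where
  z_ne h1 := by
    have h2 := (QuotientGroup.eq_one_iff z).1 h1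
    exact h.z_ne (eq_one_of_odd_of_sq (odd_orderOf hK h2) h.zz)
  zz := by rw [← QuotientGroup.mk_mul, h.zz, QuotientGroup.mk_one]
  mul {x y} hx hy := by
    induction x using QuotientGroup.induction_on with | H x => ?_
    induction y using QuotientGroup.induction_on with | H y => ?_
    obtain ⟨x', hx1, hx2⟩ := exists_lift K h.zz hK hx
    obtain ⟨y', hy1, hy2⟩ := exists_lift K h.zz hK hy
    rw [← hx2, ← hy2, ← QuotientGroup.mk_mul, quo_eq K hX h hK hx1, quo_eq K hX h hK hy1,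
      quo_eq K hX h hK (comm_mul hx1 hy1), h.mul hx1 hy1]
  surj a := by
    obtain ⟨x, hx, rfl⟩ := h.surj a
    refine ⟨(x : G ⧸ K), ?_, quo_eq K hX h hK hx⟩
    rw [← QuotientGroup.mk_mul, hx, QuotientGroup.mk_mul]
  odd {x} hx h1 := by
    induction x using QuotientGroup.induction_on with | H x => ?_
    obtain ⟨x', hx1, hx2⟩ := exists_lift K h.zz hK hx
    rw [← hx2, quo_eq K hX h hK hx1] at h1
    rw [← hx2]
    exact Odd.of_dvd_nat (h.odd hx1 h1) (orderOf_map_dvd (QuotientGroup.mk' K) x')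
  pz := by rw [quo_eq K hX h hK rfl, h.pz]

/-- `z` is not isolated in the quotient if it is not isolated in `G` -/
theorem nonIso_quotient (h1 : z * z = 1) (hK : Odd (Nat.card K)) [Finite G] (hn : NonIso z) :
    NonIso (z : G ⧸ K) := by
  obtain ⟨g, hg1, hg2⟩ := hn
  refine ⟨(g : G ⧸ K), ?_, ?_⟩
  · intro h2
    apply hg1
    have h3 : g * z * g⁻¹ * z ∈ K := by
      rw [← QuotientGroup.eq_one_iff]
      have h4 : ((g * z * g⁻¹ * z : G) : G ⧸ K) = (g : G ⧸ K) * z * (g : G ⧸ K)⁻¹ * z := rfl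
      rw [h4, h2, ← QuotientGroup.mk_mul, h1, QuotientGroup.mk_one]
    have h5 : g * z * g⁻¹ * z = 1 := by
      refine eq_one_of_odd_of_sq (odd_orderOf hK h3) ?_
      calc g * z * g⁻¹ * z * (g * z * g⁻¹ * z) = g * z * g⁻¹ * (z * (g * z * g⁻¹)) * z := by group
        _ = g * z * g⁻¹ * (g * z * g⁻¹ * z) * z := by rw [hg2]
        _ = g * (z * z) * g⁻¹ * (z * z) := by group
        _ = 1 := by rw [h1]; group
    exact (mul_eq_one_iff_eq_inv.1 h5).trans (inv_of_sq h1)
  · have h4 : ((g * z * g⁻¹ * z : G) : G ⧸ K) = ((z * (g * z * g⁻¹) : G) : G ⧸ K) := by rw [hg2]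
    exact h4

end basic

end Cfsg.Agent.CoverCore.Exists
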