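import Cfsg.Agent.CoverCore.Exists
import Cfsg.Agent.S0215
import Cfsg.Agent.S1180

/-!
# The interface `Has`: the signalizer functor `O(C(v))` on `V`
-/

set_option autoImplicit false

namespace Cfsg.Agent.CoverCore.Functor

open Subgroup Cfsg Cfsg.Agent.StandardComponent.CentCore
open Cfsg.Agent.CoverCore.Abs Cfsg.Agent.CoverCore.HasCover Cfsg.Agent.CoverCore.Exists

universe u

/-- the odd order theorem -/
def FT : Prop := ∀ (X : Type u) [Group X] [Finite X], Odd (Nat.card X) → Group.IsSolvable X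

/-- the solvable signalizer functor theorem for the prime `2` -/
def SFT : Prop :=
  ∀ (G : Type u) [Group G] [Finite G] (A : Subgroup G)
    (_ : ∀ a ∈ A, ∀ b ∈ A, a * b = b * a) (_ : ∀ a ∈ A, a ^ 2 = 1)
    (_ : 2 ^ 3 ≤ Nat.card A) (θ : G → Subgroup G)
    (_ : ∀ a ∈ A, a ≠ 1 → θ a ≤ Subgroup.centralizer {a})
    (_ : ∀ a ∈ A, a ≠ 1 → ¬ 2 ∣ Nat.card (θ a))
    (_ : ∀ a ∈ A, a ≠ 1 → ∀ b ∈ A, ∀ x ∈ θ a, b * x * b⁻¹ ∈ θ a)
    (_ : ∀ a ∈ A, a ≠ 1 → Group.IsSolvable (θ a))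
    (_ : ∀ a ∈ A, a ≠ 1 → ∀ b ∈ A, b ≠ 1 → θ a ⊓ Subgroup.centralizer {b} ≤ θ b),
    ¬ 2 ∣ Nat.card ↥(⨆ a : {a : G // a ∈ A ∧ a ≠ 1}, θ a) ∧
      (∀ a ∈ A, a ≠ 1 →
        (⨆ b : {a : G // a ∈ A ∧ a ≠ 1}, θ b) ⊓ Subgroup.centralizer {a} = θ a) ∧
      Group.IsSolvable ↥(⨆ a : {a : G // a ∈ A ∧ a ≠ 1}, θ a)

theorem not_two_dvd {n : ℕ} (h : Odd n) : ¬ 2 ∣ n := fun h1 =>
  (Nat.not_even_iff_odd.2 h) (even_iff_two_dvd.2 h1)

theorem odd_of_not_two_dvd {n : ℕ} (h : ¬ 2 ∣ n) : Odd n :=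
  Nat.not_even_iff_odd.1 fun h1 => h (even_iff_two_dvd.1 h1)

section main

variable {X : Type*} [Group X] [Finite X] {ζ : X} {G : Type u} [Group G] [Finite G] {z : G} {p : G → X}

/-- generation by the centralisers of the elements of `V` -/
theorem le_of_e {G : Type*} [Group G] [Finite G] {V K L : Subgroup G} (hV : ESixteen V)
    (hK : Odd (Nat.card K)) (hinv : ∀ v ∈ V, ∀ x ∈ K, v * x * v⁻¹ ∈ K)
    (h : ∀ v ∈ V, v ≠ 1 → ∀ x ∈ K, x * v = v * x → x ∈ L) : K ≤ L := by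
  obtain ⟨c, hc, hcl⟩ := exists_notMem hV.card [1] (by norm_num)
  simp only [List.mem_cons, List.not_mem_nil, or_false] at hcl
  obtain ⟨d, hd, hdl⟩ := exists_notMem hV.card [1, c] (by norm_num)
  simp only [List.mem_cons, List.not_mem_nil, or_false, not_or] at hdl
  obtain ⟨hd1, hdc⟩ := hdl
  refine le_of_four (hV.sq c hc) (hV.sq d hd) (hV.comm c hc d hd) hcl hd1 (Ne.symm hdc) hK (hinv c hc)
    (hinv d hd) (h c hc hcl) (h d hd hd1) (h (c * d) (V.mul_mem hc hd) ?_)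
  intro h1
  exact hdc ((mul_eq_one_iff_eq_inv.1 h1).trans (inv_of_sq (hV.sq d hd))).symm

theorem conj_of_mem (hX : Good X ζ) (h : Has ζ z p) (hn : NonIso z) {V : Subgroup G} (hV : ESixteen V)
    (hzV : z ∈ V) {v : G} (hv : v ∈ V) (hv1 : v ≠ 1) : ∃ g : G, g * z * g⁻¹ = v :=
  exists_conj_z hX h hn (hV.comm v hv z hzV) (hV.sq v hv) hv1

theorem le_core (hX : Good X ζ) (h : Has ζ z p) (hn : NonIso z) {V Y : Subgroup G} (hV : ESixteen V)
    (hzV : z ∈ V) {v : G} (hv : v ∈ V) (hv1 : v ≠ 1) (hY : Odd (Nat.card Y))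
    (hYv : ∀ y ∈ Y, y * v = v * y) (hinv : ∀ v ∈ V, ∀ y ∈ Y, v * y * v⁻¹ ∈ Y) :
    Y ≤ centralizerPPrimeCore 2 v := by
  obtain ⟨g, rfl⟩ := conj_of_mem hX h hn hV hzV hv hv1
  exact h.le_core hX hV hv hY hYv hinv

/-- the completion of the functor -/
theorem exists_w (hFT : FT.{u}) (hSF : SFT.{u}) (hX : Good X ζ) (h : Has ζ z p) (hn : NonIso z)
    {V : Subgroup G} (hV : ESixteen V) (hzV : z ∈ V) :
    ∃ W : Subgroup G, Odd (Nat.card W) ∧ (∀ v ∈ V, ∀ x ∈ W, v * x * v⁻¹ ∈ W) ∧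
      (∀ v ∈ V, v ≠ 1 → W ⊓ centralizer {v} = centralizerPPrimeCore 2 v) ∧
      ∀ Y : Subgroup G, Odd (Nat.card Y) → (∀ v ∈ V, ∀ x ∈ Y, v * x * v⁻¹ ∈ Y) → Y ≤ W := by
  obtain ⟨h1, h2, -⟩ := hSF G V hV.comm (fun a ha => by rw [pow_two, hV.sq a ha])
    (by rw [hV.card]; norm_num) (fun a => centralizerPPrimeCore 2 a)
    (fun a _ _ => core_le a) (fun a _ _ => not_two_dvd (core_odd a))
    (fun a ha _ b hb x hx => core_conj_mem (hV.comm b hb a ha) hx)
    (fun a _ _ => hFT _ (core_odd a))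
    (by
      intro a ha ha1 b hb hb1
      refine le_core hX h hn hV hzV hb hb1 (Odd.of_dvd_nat (core_odd a) (card_dvd_of_le inf_le_left))
        (fun y hy => mem_cent.1 hy.2) ?_
      rintro v hv y ⟨hy1, hy2⟩
      refine ⟨core_conj_mem (hV.comm v hv a ha) hy1, mem_cent.2 ?_⟩
      exact comm_mul (comm_mul (hV.comm v hv b hb) (mem_cent.1 hy2)) (comm_inv (hV.comm v hv b hb)))
  set W := ⨆ a : {a : G // a ∈ V ∧ a ≠ 1}, centralizerPPrimeCore 2 (a : G) with hW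
  have hWinv : ∀ v ∈ V, ∀ x ∈ W, v * x * v⁻¹ ∈ W := by
    intro v hv
    have h3 : W ≤ W.comap (MulAut.conj v).toMonoidHom := by
      refine iSup_le ?_
      rintro ⟨a, ha, ha1⟩ x hx
      rw [mem_comap]
      exact mem_iSup_of_mem (⟨a, ha, ha1⟩ : {a : G // a ∈ V ∧ a ≠ 1})
        (core_conj_mem (hV.comm v hv a ha) hx)
    exact fun x hx => h3 hx
  refine ⟨W, odd_of_not_two_dvd h1, hWinv, h2, ?_⟩
  intro Y hY hYinv
  refine le_of_e hV hY hYinv ?_
  intro v hv hv1 x hx hxv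
  have h4 : Y ⊓ centralizer {v} ≤ centralizerPPrimeCore 2 v :=
    le_core hX h hn hV hzV hv hv1 (Odd.of_dvd_nat hY (card_dvd_of_le inf_le_left))
      (fun y hy => mem_cent.1 hy.2) (by
        rintro w hw y ⟨hy1, hy2⟩
        exact ⟨hYinv w hw y hy1, mem_cent.2
          (comm_mul (comm_mul (hV.comm w hw v hv) (mem_cent.1 hy2)) (comm_inv (hV.comm w hw v hv)))⟩)
  exact mem_iSup_of_mem (⟨v, hv, hv1⟩ : {a : G // a ∈ V ∧ a ≠ 1}) (h4 ⟨hx, mem_cent.2 hxv⟩)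

theorem oddCore_odd {G : Type*} [Group G] [Finite G] : Odd (Nat.card (oddCore G)) :=
  Nat.Coprime.odd_of_right (Lib.Cores.pPrimeCore_coprime 2)

theorem le_oddCore {G : Type*} [Group G] [Finite G] {N : Subgroup G} (hN : N.Normal)
    (h : Odd (Nat.card N)) : N ≤ oddCore G :=
  Lib.Cores.le_pPrimeCore hN (Nat.coprime_two_right.2 h)

/-- Subgroups of odd order normalised by `V` in the core-free case. -/
theorem eq_bot_of_oddCore (hX : Good X ζ) (h : Has ζ z p) (hO : oddCore G = ⊥)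
    (hIH : NonIso z → centralizerPPrimeCore 2 z ≤ oddCore G)
    {V Y : Subgroup G} (hV : ESixteen V) (hzV : z ∈ V) (hY : Odd (Nat.card Y))
    (hinv : ∀ v ∈ V, ∀ x ∈ Y, v * x * v⁻¹ ∈ Y) : Y = ⊥ := by
  by_cases hn : NonIso z
  · have h1 := hIH hn
    rw [hO] at h1
    refine (eq_bot_iff.2 ?_)
    refine le_of_e hV hY hinv ?_
    intro v hv hv1 x hx hxv
    have h4 : Y ⊓ centralizer {v} ≤ centralizerPPrimeCore 2 v :=
      le_core hX h hn hV hzV hv hv1 (Odd.of_dvd_nat hY (card_dvd_of_le inf_le_left))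
        (fun y hy => mem_cent.1 hy.2) (by
          rintro w hw y ⟨hy1, hy2⟩
          exact ⟨hinv w hw y hy1, mem_cent.2
            (comm_mul (comm_mul (hV.comm w hw v hv) (mem_cent.1 hy2)) (comm_inv (hV.comm w hw v hv)))⟩)
    have h5 := h4 ⟨hx, mem_cent.2 hxv⟩
    obtain ⟨g, hg⟩ := conj_of_mem hX h hn hV hzV hv hv1
    rw [← hg, mem_core_conj] at h5
    have h6 := mem_bot.1 (h1 h5)
    rw [mem_bot]
    calc x = g * (g⁻¹ * x * g) * g⁻¹ := by group
      _ = 1 := by rw [h6]; group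
  · -- the Z*-theorem
    have hzo : orderOf z = 2 := orderOf_eq_prime (by rw [pow_two, h.zz]) h.z_ne
    have hiso : Cfsg.IsIsolatedInvolution z := by
      refine ⟨hzo, fun g hg => ?_⟩
      by_contra h1
      exact hn ⟨g, h1, hg.eq.symm⟩
    have : Fact (Nat.Prime 2) := ⟨Nat.prime_two⟩
    have hp : IsPGroup 2 (zpowers z) := by
      rw [IsPGroup.iff_card]
      exact ⟨1, by rw [Nat.card_zpowers, hzo, pow_one]⟩
    obtain ⟨P, hP⟩ := hp.exists_le_sylow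
    have hzP : z ∈ P := hP (mem_zpowers z)
    obtain ⟨N, hN, hodd, hcomm⟩ := Cfsg.Agent.S0215.result P z hzo hzP fun g hg =>
      Cfsg.Agent.S1180.eq_of_conj_mem_isPGroup z hiso (P : Subgroup G) P.isPGroup' hzP g hg
    have hNbot : N = ⊥ := by
      have := le_oddCore hN hodd
      rw [hO] at this
      exact eq_bot_iff.2 this
    have hzc : ∀ g, g * z = z * g := by
      intro g
      have h1 := hcomm g
      rw [hNbot, mem_bot, mul_inv_eq_one, mul_inv_eq_iff_eq_mul] at h1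
      exact h1.symm
    have h1 := h.eq_one hX hV hzV hY (fun y _ => hzc y) hinv
    have h2 : h.ker ≤ oddCore G := le_oddCore ⟨fun x hx y => h.ker_conj (hzc y) hx⟩ h.odd_ker
    rw [hO] at h2
    rw [eq_bot_iff]
    exact fun y hy => h2 ⟨hzc y, h1 y hy⟩

/-- image of `V` in a quotient by a normal subgroup of odd order -/
theorem eSixteen_quotient {G : Type*} [Group G] [Finite G] {V : Subgroup G} (hV : ESixteen V)
    (K : Subgroup G) [K.Normal] (hK : Odd (Nat.card K)) : ESixteen (V.map (QuotientGroup.mk' K)) := by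
  refine ⟨?_, ?_, ?_⟩
  · rintro _ ⟨a, ha, rfl⟩ _ ⟨b, hb, rfl⟩
    rw [← map_mul, ← map_mul, hV.comm a ha b hb]
  · rintro _ ⟨a, ha, rfl⟩
    rw [← map_mul, hV.sq a ha, map_one]
  · have hinj : Set.InjOn (QuotientGroup.mk' K) (V : Set G) := by
      intro x hx y hy hxy
      have h1 : x⁻¹ * y ∈ K := QuotientGroup.eq.1 hxy
      have h2 : x⁻¹ * y = 1 := eq_one_of_odd_of_sq (odd_orderOf hK h1)
        (hV.sq _ (V.mul_mem (V.inv_mem hx) hy))
      exact inv_mul_eq_one.1 h2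
    have h2 : Nat.card (V.map (QuotientGroup.mk' K)) =
      ((QuotientGroup.mk' K) '' (V : Set G)).ncard := rfl
    rw [h2, Set.InjOn.ncard_image hinj]
    exact hV.card

/-- Subgroups of odd order normalised by `V` lie in the core, if the theorem holds for `G / O(G)`. -/
theorem le_oddCore_of_inv (hX : Good X ζ) (h : Has ζ z p)
    (hIH : ∀ (z' : G ⧸ oddCore G) (p' : G ⧸ oddCore G → X), Has ζ z' p' → NonIso z' →
      centralizerPPrimeCore 2 z' ≤ oddCore (G ⧸ oddCore G))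
    {V Y : Subgroup G} (hV : ESixteen V) (hzV : z ∈ V) (hY : Odd (Nat.card Y))
    (hinv : ∀ v ∈ V, ∀ x ∈ Y, v * x * v⁻¹ ∈ Y) : Y ≤ oddCore G := by
  have hn : (oddCore G).Normal := Lib.Cores.pPrimeCore_normal 2
  have hbot : oddCore (G ⧸ oddCore G) = ⊥ := Lib.Cores.pPrimeCore_quotient_pPrimeCore 2
  have key := eq_bot_of_oddCore hX (Exists.Has.quotient (oddCore G) hX h oddCore_odd) hbot
    (fun hn => hIH _ _ (Exists.Has.quotient (oddCore G) hX h oddCore_odd) hn)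
    (V := V.map (QuotientGroup.mk' (oddCore G))) (Y := Y.map (QuotientGroup.mk' (oddCore G)))
    (eSixteen_quotient hV _ oddCore_odd) ⟨z, hzV, rfl⟩
    (Odd.of_dvd_nat hY (card_map_dvd _ _)) (by
      rintro _ ⟨v, hv, rfl⟩ _ ⟨y, hy, rfl⟩
      exact ⟨v * y * v⁻¹, hinv v hv y hy, rfl⟩)
  intro y hy
  have h1 : QuotientGroup.mk' (oddCore G) y ∈ Y.map (QuotientGroup.mk' (oddCore G)) := ⟨y, hy, rfl⟩
  rw [key, mem_bot] at h1
  exact (QuotientGroup.eq_one_iff y).1 h1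

end main

end Cfsg.Agent.CoverCore.Functor
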