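import Cfsg.Agent.CoverCore.Abs

/-!
# The interface `Has`: elementary consequences
-/

set_option autoImplicit false

namespace Cfsg.Agent.CoverCore.HasCover

open Subgroup Cfsg Cfsg.Agent.StandardComponent.CentCore
open Cfsg.Agent.CoverCore.Abs

/-- `p` restricts to a homomorphism of `C(z)` onto `X` with kernel of odd order. -/
structure Has {X : Type*} [Group X] (ζ : X) {G : Type*} [Group G] (z : G) (p : G → X) : Prop where
  z_ne : z ≠ 1
  zz : z * z = 1
  mul : ∀ {x y : G}, x * z = z * x → y * z = z * y → p (x * y) = p x * p y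
  surj : ∀ a : X, ∃ x : G, x * z = z * x ∧ p x = a
  odd : ∀ {x : G}, x * z = z * x → p x = 1 → Odd (orderOf x)
  pz : p z = ζ

section basic

variable {X : Type*} [Group X] {ζ : X} {G : Type*} [Group G] {z : G} {p : G → X}

/-- the homomorphism -/
def Has.hom (h : Has ζ z p) : centralizer ({z} : Set G) →* X where
  toFun x := p x
  map_one' := by
    have h1 := h.mul (x := 1) (y := 1) (by simp) (by simp)
    rw [mul_one] at h1
    exact mul_eq_left.1 h1.symm
  map_mul' x y := h.mul (mem_cent.1 x.2) (mem_cent.1 y.2)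

theorem Has.hom_apply (h : Has ζ z p) (x : centralizer ({z} : Set G)) : h.hom x = p x := rfl

theorem Has.one (h : Has ζ z p) : p 1 = 1 := by
  have h1 := h.mul (x := 1) (y := 1) (by simp) (by simp)
  rw [mul_one] at h1
  exact mul_eq_left.1 h1.symm

theorem comm_inv {x z : G} (h : x * z = z * x) : x⁻¹ * z = z * x⁻¹ := by
  rw [inv_mul_eq_iff_eq_mul, ← mul_assoc, h, mul_inv_cancel_right]

theorem comm_mul {x y z : G} (h : x * z = z * x) (h' : y * z = z * y) : x * y * z = z * (x * y) := by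
  rw [mul_assoc, h', ← mul_assoc, h, mul_assoc]

theorem Has.inv (h : Has ζ z p) {x : G} (hx : x * z = z * x) : p x⁻¹ = (p x)⁻¹ := by
  have h1 := h.mul (comm_inv hx) hx
  rw [inv_mul_cancel, h.one] at h1
  exact eq_inv_of_mul_eq_one_left h1.symm

theorem Has.conj (h : Has ζ z p) {g x : G} (hg : g * z = z * g) (hx : x * z = z * x) :
    p (g * x * g⁻¹) = p g * p x * (p g)⁻¹ := by
  rw [h.mul (comm_mul hg hx) (comm_inv hg), h.mul hg hx, h.inv hg]

theorem Has.surjective (h : Has ζ z p) : Function.Surjective h.hom := fun a => by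
  obtain ⟨x, hx, rfl⟩ := h.surj a
  exact ⟨⟨x, mem_cent.2 hx⟩, rfl⟩

/-- the kernel -/
def Has.ker (h : Has ζ z p) : Subgroup G where
  carrier := {x | x * z = z * x ∧ p x = 1}
  one_mem' := ⟨by simp, h.one⟩
  mul_mem' {x y} hx hy := ⟨comm_mul hx.1 hy.1, by rw [h.mul hx.1 hy.1, hx.2, hy.2, mul_one]⟩
  inv_mem' {x} hx := ⟨comm_inv hx.1, by rw [h.inv hx.1, hx.2, inv_one]⟩

theorem Has.mem_ker (h : Has ζ z p) {x : G} : x ∈ h.ker ↔ x * z = z * x ∧ p x = 1 := Iff.rfl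

theorem Has.ker_conj (h : Has ζ z p) {y x : G} (hy : y * z = z * y) (hx : x ∈ h.ker) :
    y * x * y⁻¹ ∈ h.ker :=
  ⟨comm_mul (comm_mul hy hx.1) (comm_inv hy), by rw [h.conj hy hx.1, hx.2, mul_one, mul_inv_cancel]⟩

theorem Has.odd_ker [Finite G] (h : Has ζ z p) : Odd (Nat.card h.ker) :=
  odd_card_of_forall _ fun _ hx => h.odd hx.1 hx.2

theorem Has.ker_le [Finite G] (h : Has ζ z p) : h.ker ≤ centralizerPPrimeCore 2 z :=
  le_core z (fun _ hx => hx.1) (fun _ hy _ hx => h.ker_conj hy hx) h.odd_ker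

theorem Has.eq_one_of_sq (h : Has ζ z p) {x : G} (hx : x * z = z * x) (hp : p x = 1) (hs : x * x = 1) :
    x = 1 := Abs.eq_one_of_odd_of_sq (h.odd hx hp) hs

theorem Has.eq_z (h : Has ζ z p) {x : G} (hx : x * z = z * x) (hp : p x = ζ) (hs : x * x = 1)
    (hX : ζ * ζ = 1) : x = z := by
  have h1 : x * z = 1 := by
    refine h.eq_one_of_sq (comm_mul hx rfl) ?_ ?_
    · rw [h.mul hx rfl, hp, h.pz, hX]
    · rw [mul_assoc, ← mul_assoc z x z, ← hx, mul_assoc x z z, h.zz, mul_one, hs]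
  exact (mul_eq_one_iff_eq_inv.1 h1).trans (inv_of_sq h.zz)

/-- conjugacy of involutions of `C(z)` from conjugacy of their images -/
theorem Has.exists_conj (h : Has ζ z p) {s t : G} (hs : s * z = z * s) (ht : t * z = z * t)
    (ss : s * s = 1) (tt : t * t = 1) {w : X} (hw : w * p s * w⁻¹ = p t) :
    ∃ c : G, c * z = z * c ∧ c * s * c⁻¹ = t := by
  obtain ⟨g, hg, rfl⟩ := h.surj w
  have h1 : g * s * g⁻¹ * z = z * (g * s * g⁻¹) := comm_mul (comm_mul hg hs) (comm_inv hg)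
  have h2 : g * s * g⁻¹ * (g * s * g⁻¹) = 1 := by
    calc g * s * g⁻¹ * (g * s * g⁻¹) = g * (s * s) * g⁻¹ := by group
      _ = 1 := by rw [ss]; group
  have h3 : p (g * s * g⁻¹ * t) = 1 := by
    rw [h.mul h1 ht, h.conj hg hs, hw, ← h.mul ht ht, tt, h.one]
  obtain ⟨k, hk, hk2⟩ := exists_conj_of_odd h2 tt (h.odd (comm_mul h1 ht) h3)
  have hkz : k * z = z * k := by
    have h4 : zpowers (g * s * g⁻¹ * t) ≤ centralizer {z} := by
      rw [zpowers_le]; exact mem_cent.2 (comm_mul h1 ht)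
    exact mem_cent.1 (h4 hk)
  refine ⟨k * g, comm_mul hkz hg, ?_⟩
  rw [← hk2]; group

variable [Finite G] [Finite X]

/-- The key lemma. -/
theorem Has.eq_one (hX : Good X ζ) (h : Has ζ z p) {V Y : Subgroup G} (hV : ESixteen V) (hz : z ∈ V)
    (hY : Odd (Nat.card Y)) (hYz : ∀ y ∈ Y, y * z = z * y) (hinv : ∀ v ∈ V, ∀ y ∈ Y, v * y * v⁻¹ ∈ Y) :
    ∀ y ∈ Y, p y = 1 := by
  have hVC : V ≤ centralizer {z} := fun v hv => mem_cent.2 (hV.comm v hv z hz)
  have hYC : Y ≤ centralizer {z} := fun y hy => mem_cent.2 (hYz y hy)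
  have hinj : Set.InjOn p (V : Set G) := by
    intro x hx y hy hxy
    have hxz := hV.comm x hx z hz
    have hyz := hV.comm y hy z hz
    have h1 : x * y⁻¹ ∈ V := V.mul_mem hx (V.inv_mem hy)
    have h2 : x * y⁻¹ = 1 := by
      refine h.eq_one_of_sq (comm_mul hxz (comm_inv hyz)) ?_ (hV.sq _ h1)
      rw [h.mul hxz (comm_inv hyz), h.inv hyz, hxy, mul_inv_cancel]
    exact mul_inv_eq_one.1 h2
  let V' : Subgroup X := (V.subgroupOf (centralizer {z})).map h.hom
  let Y' : Subgroup X := (Y.subgroupOf (centralizer {z})).map h.hom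
  have hV' : ∀ a : X, a ∈ V' ↔ ∃ v ∈ V, p v = a := by
    intro a
    constructor
    · rintro ⟨v, hv, rfl⟩
      exact ⟨v, hv, rfl⟩
    · rintro ⟨v, hv, rfl⟩
      exact ⟨⟨v, hVC hv⟩, hv, rfl⟩
  have hY' : ∀ a : X, a ∈ Y' ↔ ∃ v ∈ Y, p v = a := by
    intro a
    constructor
    · rintro ⟨v, hv, rfl⟩
      exact ⟨v, hv, rfl⟩
    · rintro ⟨v, hv, rfl⟩
      exact ⟨⟨v, hYC hv⟩, hv, rfl⟩
  have hE : ESixteen V' := by
    refine ⟨?_, ?_, ?_⟩
    · intro a ha b hb
      obtain ⟨v, hv, rfl⟩ := (hV' a).1 ha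
      obtain ⟨w, hw, rfl⟩ := (hV' b).1 hb
      have hvz := hV.comm v hv z hz
      have hwz := hV.comm w hw z hz
      rw [← h.mul hvz hwz, ← h.mul hwz hvz, hV.comm v hv w hw]
    · intro a ha
      obtain ⟨v, hv, rfl⟩ := (hV' a).1 ha
      have hvz := hV.comm v hv z hz
      rw [← h.mul hvz hvz, hV.sq v hv, h.one]
    · have h1 : (V' : Set X) = p '' (V : Set G) := by
        ext a
        rw [SetLike.mem_coe, hV']
        rfl
      have h2 : Nat.card V' = (V' : Set X).ncard := rfl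
      rw [h2, h1, Set.InjOn.ncard_image hinj]
      exact hV.card
  have hodd : Odd (Nat.card Y') := by
    refine Odd.of_dvd_nat hY ?_
    have h1 : Nat.card (Y.subgroupOf (centralizer {z})) = Nat.card Y :=
      Nat.card_congr (subgroupOfEquivOfLe hYC).toEquiv
    rw [← h1]
    exact card_map_dvd _ _
  have key := hX.eq_one hE hodd (by
    intro a ha b hb
    obtain ⟨v, hv, rfl⟩ := (hV' a).1 ha
    obtain ⟨w, hw, rfl⟩ := (hY' b).1 hb
    have hvz := hV.comm v hv z hz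
    have hwz := hYz w hw
    exact (hY' _).2 ⟨v * w * v⁻¹, hinv v hv w hw, h.conj hvz hwz⟩)
  intro y hy
  exact key _ ((hY' _).2 ⟨y, hy, rfl⟩)

/-- A subgroup of odd order of `C(z)` normalised by `C(z)` lies in the kernel. -/
theorem Has.eq_one_of_normal (hX : Good X ζ) (h : Has ζ z p) {Y : Subgroup G}
    (hY : Odd (Nat.card Y)) (hYz : ∀ y ∈ Y, y * z = z * y)
    (hinv : ∀ v, v * z = z * v → ∀ y ∈ Y, v * y * v⁻¹ ∈ Y) : ∀ y ∈ Y, p y = 1 := by
  have hYC : Y ≤ centralizer {z} := fun y hy => mem_cent.2 (hYz y hy)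
  let Y' : Subgroup X := (Y.subgroupOf (centralizer {z})).map h.hom
  have hY' : ∀ a : X, a ∈ Y' ↔ ∃ v ∈ Y, p v = a := by
    intro a
    constructor
    · rintro ⟨v, hv, rfl⟩
      exact ⟨v, hv, rfl⟩
    · rintro ⟨v, hv, rfl⟩
      exact ⟨⟨v, hYC hv⟩, hv, rfl⟩
  have hodd : Odd (Nat.card Y') := by
    refine Odd.of_dvd_nat hY ?_
    have h1 : Nat.card (Y.subgroupOf (centralizer {z})) = Nat.card Y :=
      Nat.card_congr (subgroupOfEquivOfLe hYC).toEquiv
    rw [← h1]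
    exact card_map_dvd _ _
  have key := hX.eq_one_of_normal hodd (by
    intro a b hb
    obtain ⟨v, hv, rfl⟩ := h.surj a
    obtain ⟨w, hw, rfl⟩ := (hY' b).1 hb
    exact (hY' _).2 ⟨v * w * v⁻¹, hinv v hv w hw, h.conj hv (hYz w hw)⟩)
  intro y hy
  exact key _ ((hY' _).2 ⟨y, hy, rfl⟩)

theorem Has.mem_core (hX : Good X ζ) (h : Has ζ z p) {x : G} :
    x ∈ centralizerPPrimeCore 2 z ↔ x * z = z * x ∧ p x = 1 := by
  refine ⟨fun hx => ⟨core_comm hx, ?_⟩, fun hx => h.ker_le hx⟩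
  exact h.eq_one_of_normal hX (core_odd z) (fun y hy => core_comm hy)
    (fun v hv y hy => core_conj_mem hv hy) x hx

/-- `O(C(v))` contains every `V`-invariant subgroup of odd order of `C(v)`, `v` a conjugate of `z` in `V`. -/
theorem Has.le_core (hX : Good X ζ) (h : Has ζ z p) {V Y : Subgroup G} (hV : ESixteen V) {g : G}
    (hz : g * z * g⁻¹ ∈ V) (hY : Odd (Nat.card Y)) (hYz : ∀ y ∈ Y, y * (g * z * g⁻¹) = g * z * g⁻¹ * y)
    (hinv : ∀ v ∈ V, ∀ y ∈ Y, v * y * v⁻¹ ∈ Y) : Y ≤ centralizerPPrimeCore 2 (g * z * g⁻¹) := by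
  let V' : Subgroup G := V.comap (MulAut.conj g).toMonoidHom
  let Y' : Subgroup G := Y.comap (MulAut.conj g).toMonoidHom
  have hV' : ∀ x, x ∈ V' ↔ g * x * g⁻¹ ∈ V := fun x => Iff.rfl
  have hY' : ∀ x, x ∈ Y' ↔ g * x * g⁻¹ ∈ Y := fun x => Iff.rfl
  have hcard : ∀ W : Subgroup G, Nat.card (W.comap (MulAut.conj g).toMonoidHom) = Nat.card W := by
    intro W
    have h1 : W.comap (MulAut.conj g).toMonoidHom = W.map (MulAut.conj g).symm.toMonoidHom :=
      comap_equiv_eq_map_symm (MulAut.conj g) W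
    rw [h1, card_map_of_injective (MulAut.conj g).symm.injective]
  have key := h.eq_one hX (V := V') (Y := Y') ⟨?_, ?_, ?_⟩ hz ?_ ?_ ?_
  · intro y hy
    rw [mem_core_conj, h.mem_core hX]
    have h1 : g⁻¹ * y * g ∈ Y' := by
      rw [hY']
      have : g * (g⁻¹ * y * g) * g⁻¹ = y := by group
      rwa [this]
    refine ⟨?_, key _ h1⟩
    calc g⁻¹ * y * g * z = g⁻¹ * (y * (g * z * g⁻¹)) * g := by group
      _ = g⁻¹ * (g * z * g⁻¹ * y) * g := by rw [hYz y hy]
      _ = z * (g⁻¹ * y * g) := by group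
  · intro a ha b hb
    have h1 := hV.comm _ ((hV' a).1 ha) _ ((hV' b).1 hb)
    have h2 : g * (a * b) * g⁻¹ = g * (b * a) * g⁻¹ := by
      calc g * (a * b) * g⁻¹ = g * a * g⁻¹ * (g * b * g⁻¹) := by group
        _ = g * b * g⁻¹ * (g * a * g⁻¹) := h1
        _ = _ := by group
    exact mul_left_cancel (mul_right_cancel h2)
  · intro a ha
    have h1 := hV.sq _ ((hV' a).1 ha)
    have h2 : a * a = g⁻¹ * (g * a * g⁻¹ * (g * a * g⁻¹)) * g := by group
    rw [h2, h1]; group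
  · rw [hcard]; exact hV.card
  · rw [hcard]; exact hY
  · intro y hy
    have h1 := hYz _ ((hY' y).1 hy)
    calc y * z = g⁻¹ * (g * y * g⁻¹ * (g * z * g⁻¹)) * g := by group
      _ = g⁻¹ * (g * z * g⁻¹ * (g * y * g⁻¹)) * g := by rw [h1]
      _ = z * y := by group
  · intro v hv y hy
    rw [hY']
    have h1 := hinv _ ((hV' v).1 hv) _ ((hY' y).1 hy)
    have h2 : g * (v * y * v⁻¹) * g⁻¹ = g * v * g⁻¹ * (g * y * g⁻¹) * (g * v * g⁻¹)⁻¹ := by group
    rwa [h2]

end basic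

end Cfsg.Agent.CoverCore.HasCover
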