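import Cfsg.Agent.CoverCore.AltEnd
import Cfsg.Agent.McLType.Final
import Cfsg.Agent.McLType.X275

/-!
# `HMcL`
-/

set_option autoImplicit false

open Cfsg Subgroup

universe u

namespace Cfsg.Agent.CoverCore.InstMcL

theorem isMcL_of_iso {G : Type u} [Group G] (h : Spor.IsoMcL G) : IsMcL G := by
  obtain ⟨e1⟩ := h
  obtain ⟨e2⟩ := McLType.X275.isoMcL_G1
  let e := e1.trans e2.symm
  have h1 : IsMcL McLType.X275.G1 := McLType.X275.isMcL_G1
  have : IsSimpleGroup McLType.X275.G1 := h1.1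
  exact ⟨e.isSimpleGroup, by rw [Nat.card_congr e.toEquiv]; exact h1.2⟩

/-- the recognition of `McL` by `2.A₈` -/
theorem hMcL : AltEnd.HMcL.{u} := fun _ _ _ _ _ _ h hfus =>
  isMcL_of_iso (McLType.Final.isoMcL h hfus)

end Cfsg.Agent.CoverCore.InstMcL
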