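import Cfsg.Agent.CoverCore.Step
import Cfsg.Prelude.Def_Involutions

/-!
# The odd core of the centraliser of a non-isolated involution of type `X`
-/

set_option autoImplicit false

namespace Cfsg.Agent.CoverCore.Main

open Subgroup Cfsg Cfsg.Agent.StandardComponent.CentCore
open Cfsg.Agent.CoverCore.Abs Cfsg.Agent.CoverCore.HasCover Cfsg.Agent.CoverCore.Exists
open Cfsg.Agent.CoverCore.Functor Cfsg.Agent.CoverCore.Step

universe u v

/-- S1221 -/
def SECore : Prop := ∀ (G : Type u) [Group G] [Finite G] (H : Subgroup G), IsStronglyEmbedded H →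
  (oddCore ↥H).map H.subtype ≤ oddCore G

/-- the statement for groups of order `< n` -/
def IH {X : Type v} [Group X] (ζ : X) (n : ℕ) : Prop :=
  ∀ (G : Type u) [Group G] [Finite G], Nat.card G < n → ∀ (z : G) (p : G → X), Has ζ z p → NonIso z →
    centralizerPPrimeCore 2 z ≤ oddCore G

section main

variable {X : Type v} [Group X] [Finite X] {ζ : X} {G : Type u} [Group G] [Finite G] {z : G} {p : G → X}
  {V W : Subgroup G}

/-- `V`-invariant subgroups of odd order of proper subgroups covering `X`. -/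
theorem mem_of_inv (D : Dat ζ z p V W) (hIH : IH.{u, v} ζ (Nat.card G)) {N : Subgroup G} (hN : N ≠ ⊤)
    (hVN : V ≤ N) (hcov : ∀ a : X, ∃ x ∈ N, x * z = z * x ∧ p x = a) {Y : Subgroup G}
    (hY : Odd (Nat.card Y)) (hYN : Y ≤ N) (hinv : ∀ v ∈ V, ∀ x ∈ Y, v * x * v⁻¹ ∈ Y) :
    Y ≤ (oddCore N).map N.subtype := by
  have hzN : z ∈ N := hVN D.hz
  have hlt : Nat.card N < Nat.card G := by
    have h1 := card_mul_index N
    have h2 : N.index ≠ 1 := fun h => hN (index_eq_one.1 h)
    have h3 : 0 < Nat.card N := Nat.card_pos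
    have h4 : N.index ≠ 0 := index_ne_zero_of_finite
    nlinarith [Nat.lt_of_le_of_ne (Nat.one_le_iff_ne_zero.2 h4) (Ne.symm h2)]
  have key := le_oddCore_of_inv (G := N) D.good (Exists.Has.sub D.has N hzN hcov) (by
    intro z' p' hz' hn'
    refine hIH _ (lt_of_le_of_lt ?_ hlt) z' p' hz' hn'
    have h1 := card_eq_card_quotient_mul_card_subgroup (oddCore N)
    have h2 : 0 < Nat.card (oddCore N) := Nat.card_pos
    rw [h1]
    exact Nat.le_mul_of_pos_right _ h2) (V := V.subgroupOf N) (Y := Y.subgroupOf N) ?_ ?_ ?_ ?_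
  · intro y hy
    exact ⟨⟨y, hYN hy⟩, key hy, rfl⟩
  · refine ⟨?_, ?_, ?_⟩
    · intro a ha b hb
      exact Subtype.ext (D.hV.comm a ha b hb)
    · intro a ha
      exact Subtype.ext (D.hV.sq a ha)
    · rw [Nat.card_congr (subgroupOfEquivOfLe hVN).toEquiv]
      exact D.hV.card
  · exact D.hz
  · rw [Nat.card_congr (subgroupOfEquivOfLe hYN).toEquiv]
    exact hY
  · intro v hv x hx
    exact hinv v hv x hx

theorem normalizer_ne_top (hO : oddCore G = ⊥) {R : Subgroup G} (hR : R ≠ ⊥) (hodd : Odd (Nat.card R)) :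
    normalizer (R : Set G) ≠ ⊤ := by
  intro h
  have h1 : R.Normal := normalizer_eq_top_iff.1 h
  have h2 := le_oddCore h1 hodd
  rw [hO] at h2
  exact hR (eq_bot_iff.2 h2)

/-- For every prime divisor `q` of `|W|` a Sylow `q`-subgroup of `W` has a normaliser covering `X`. -/
theorem exists_sylow_cov (D : Dat ζ z p V W) (hIH : IH.{u, v} ζ (Nat.card G)) (hO : oddCore G = ⊥)
    (q : ℕ) [hq : Fact q.Prime] (hqW : q ∣ Nat.card W) :
    ∃ R ≤ W, Nat.card R = q ^ (Nat.card W).factorization q ∧
      ∀ a : X, ∃ x ∈ normalizer (R : Set G), x * z = z * x ∧ p x = a := by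
  classical
  have hq2 : q ≠ 2 := by
    rintro rfl
    exact not_two_dvd D.odd hqW
  have hqodd : Odd q := hq.out.odd_of_ne_two hq2
  have hoddR : ∀ {R : Subgroup G}, IsPGroup q R → Odd (Nat.card R) := by
    intro R hR
    obtain ⟨n, hn⟩ := IsPGroup.iff_card.1 hR
    rw [hn]; exact hqodd.pow
  have hWfac : (Nat.card W).factorization q ≠ 0 := by
    intro h0
    rcases Nat.factorization_eq_zero_iff _ _ |>.1 h0 with h1 | h1 | h1
    · exact h1 hq.out
    · exact h1 hqW
    · have : 0 < Nat.card W := Nat.card_pos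
      omega
  -- `q` divides the order of `O(C(z))`
  have hqz : q ∣ Nat.card (centralizerPPrimeCore 2 z) := by
    obtain ⟨P, hP⟩ := exists_sylow D.hV D.odd D.inv q
    by_contra hcon
    have hPbot : (P : Subgroup W).map W.subtype ≤ ⊥ := by
      refine le_of_e D.hV (hoddR (P.isPGroup'.map _)) hP ?_
      intro v hv hv1 x hx hxv
      have hxW : x ∈ W := (map_subtype_le _) hx
      have h1 := D.mem_core hv hv1 hxW hxv
      obtain ⟨g, hg⟩ := conj_of_mem D.good D.has D.non D.hV D.hz hv hv1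
      rw [← hg, mem_core_conj] at h1
      obtain ⟨k, hk⟩ := IsPGroup.iff_orderOf.1 (P.isPGroup'.map W.subtype) ⟨x, hx⟩
      rw [Subgroup.orderOf_mk] at hk
      have h2 : orderOf (g⁻¹ * x * g) = orderOf x := by
        have := orderOf_injective (MulAut.conj g⁻¹).toMonoidHom (MulAut.conj g⁻¹).injective x
        rw [← this]
        congr 1
        change g⁻¹ * x * g = g⁻¹ * x * g⁻¹⁻¹
        rw [inv_inv]
      have h3 : orderOf (g⁻¹ * x * g) ∣ Nat.card (centralizerPPrimeCore 2 z) := by
        have := orderOf_dvd_natCard (⟨_, h1⟩ : centralizerPPrimeCore 2 z)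
        rwa [Subgroup.orderOf_mk] at this
      rw [h2, hk] at h3
      have hk0 : k = 0 := by
        by_contra h0
        exact hcon (dvd_trans (dvd_pow_self q h0) h3)
      rw [hk0, pow_zero, orderOf_eq_one_iff] at hk
      exact mem_bot.2 hk
    have h4 : Nat.card ((P : Subgroup W).map W.subtype) = q ^ (Nat.card W).factorization q := by
      rw [card_map_of_injective W.subtype_injective]
      exact P.card_eq_multiplicity
    rw [eq_bot_iff.2 hPbot, card_bot] at h4
    exact hWfac (by
      by_contra h0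
      have := Nat.one_lt_pow h0 hq.out.one_lt
      omega)
  -- a first group
  have hcz : ∀ x : G, x * z = z * x → x ∈ normalizer ((centralizerPPrimeCore 2 z : Subgroup G) : Set G) :=
    fun x hx => mem_norm_of fun y hy => core_conj_mem hx hy
  have hexR : ∃ R : Subgroup G, GoodR z p V q R := by
    obtain ⟨P, hP⟩ := exists_sylow D.hV (core_odd z)
      (fun v hv x hx => core_conj_mem (D.hV.comm v hv z D.hz) hx) q
    refine ⟨(P : Subgroup _).map (centralizerPPrimeCore 2 z).subtype, hP, P.isPGroup'.map _, ?_, ?_⟩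
    · intro hbot
      have h4 : Nat.card ((P : Subgroup _).map (centralizerPPrimeCore 2 z).subtype) =
          q ^ (Nat.card (centralizerPPrimeCore 2 z)).factorization q := by
        rw [card_map_of_injective (subtype_injective _)]
        exact P.card_eq_multiplicity
      rw [hbot, card_bot] at h4
      have h5 : (Nat.card (centralizerPPrimeCore 2 z)).factorization q ≠ 0 := by
        intro h0
        rcases Nat.factorization_eq_zero_iff _ _ |>.1 h0 with h1 | h1 | h1
        · exact h1 hq.out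
        · exact h1 hqz
        · have : 0 < Nat.card (centralizerPPrimeCore 2 z) := Nat.card_pos
          omega
      have := Nat.one_lt_pow h5 hq.out.one_lt
      omega
    · intro a
      obtain ⟨x, hx, rfl⟩ := D.has.surj a
      obtain ⟨c, hc, hc2, hc3⟩ := frattini (centralizerPPrimeCore 2 z) (core_odd z) q P D.has.zz
        (hcz z rfl) (mem_norm_of (hP z D.hz)) hx (hcz x hx)
      refine ⟨c * x, hc3, comm_mul hc2 hx, ?_⟩
      rw [D.has.mul hc2 hx, ((D.has.mem_core D.good).1 hc).2, one_mul]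
  -- a maximal group
  obtain ⟨R, hR, hmax⟩ := (Set.toFinite {R : Subgroup G | GoodR z p V q R}).exists_maximalFor
    (fun R : Subgroup G => Nat.card R) _ hexR
  have hR' : GoodR z p V q R := hR
  have hRW : R ≤ W := D.uniq R (hoddR hR'.pgr) hR'.inv
  refine ⟨R, hRW, ?_, hR'.cov⟩
  obtain ⟨n, hn⟩ := IsPGroup.iff_card.1 hR'.pgr
  have hnle : n ≤ (Nat.card W).factorization q := by
    have h1 : q ^ n ∣ Nat.card W := by rw [← hn]; exact card_dvd_of_le hRW
    exact (hq.out.pow_dvd_iff_le_factorization Nat.card_pos.ne').1 h1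
  by_contra hcon
  have hnlt : n < (Nat.card W).factorization q := by
    rcases hnle.lt_or_eq with h1 | h1
    · exact h1
    · exact absurd (by rw [hn, h1]) hcon
  have hdvd : q ^ (n + 1) ∣ Nat.card W :=
    (hq.out.pow_dvd_iff_le_factorization Nat.card_pos.ne').2 hnlt
  have hcardR : Nat.card (R.subgroupOf W) = q ^ n := by
    rw [Nat.card_congr (subgroupOfEquivOfLe hRW).toEquiv, hn]
  have hdvd2 := Sylow.prime_pow_dvd_card_normalizer hdvd hcardR
  set N := normalizer (R : Set G) with hNdef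
  -- `Y = N_W(R)`
  set Y : Subgroup G := W ⊓ N with hYdef
  have hcardY : q ^ (n + 1) ∣ Nat.card Y := by
    refine dvd_trans hdvd2 ?_
    have h1 : (normalizer ((R.subgroupOf W : Subgroup W) : Set W)).map W.subtype ≤ Y := by
      rintro _ ⟨x, hx, rfl⟩
      refine ⟨x.2, mem_norm_of ?_⟩
      intro y hy
      exact (mem_normalizer_iff.1 hx ⟨y, hRW hy⟩).1 hy
    have h2 := card_dvd_of_le h1
    rwa [card_map_of_injective W.subtype_injective] at h2
  have hVN : V ≤ N := fun v hv => mem_norm_of (hR'.inv v hv)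
  have hNtop : N ≠ ⊤ := normalizer_ne_top hO hR'.ne (hoddR hR'.pgr)
  have hYodd : Odd (Nat.card Y) := Odd.of_dvd_nat D.odd (card_dvd_of_le inf_le_left)
  have hYinv : ∀ v ∈ V, ∀ x ∈ Y, v * x * v⁻¹ ∈ Y := by
    rintro v hv x ⟨hx1, hx2⟩
    exact ⟨D.inv v hv x hx1, N.mul_mem (N.mul_mem (hVN hv) hx2) (N.inv_mem (hVN hv))⟩
  have hYO := mem_of_inv D hIH hNtop hVN hR'.cov hYodd inf_le_right hYinv
  set O : Subgroup G := (oddCore N).map N.subtype with hOdef
  have hOodd : Odd (Nat.card O) := by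
    rw [hOdef, card_map_of_injective N.subtype_injective]; exact oddCore_odd
  have hON : O ≤ N := map_subtype_le _
  have hOnorm : ∀ x ∈ N, ∀ y ∈ O, x * y * x⁻¹ ∈ O := by
    rintro x hx _ ⟨y, hy, rfl⟩
    exact ⟨⟨x, hx⟩ * y * ⟨x, hx⟩⁻¹, (Lib.Cores.pPrimeCore_normal (G := N) 2).conj_mem y hy _, rfl⟩
  have hOinv : ∀ v ∈ V, ∀ x ∈ O, v * x * v⁻¹ ∈ O := fun v hv x hx => hOnorm v (hVN hv) x hx
  obtain ⟨P, hP⟩ := exists_sylow D.hV hOodd hOinv q
  have hPcard : Nat.card ((P : Subgroup O).map O.subtype) = q ^ (Nat.card O).factorization q := by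
    rw [card_map_of_injective O.subtype_injective]
    exact P.card_eq_multiplicity
  have hfacO : n + 1 ≤ (Nat.card O).factorization q :=
    (hq.out.pow_dvd_iff_le_factorization Nat.card_pos.ne').1 (dvd_trans hcardY (card_dvd_of_le hYO))
  have hgood : GoodR z p V q ((P : Subgroup O).map O.subtype) := by
    refine ⟨hP, P.isPGroup'.map _, ?_, ?_⟩
    · intro hbot
      rw [hbot, card_bot] at hPcard
      have := Nat.one_lt_pow (show (Nat.card O).factorization q ≠ 0 by omega) hq.out.one_lt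
      omega
    · intro a
      obtain ⟨x, hx, hxz, rfl⟩ := hR'.cov a
      obtain ⟨c, hc, hc2, hc3⟩ := frattini O hOodd q P D.has.zz
        (mem_norm_of (hOinv z D.hz)) (mem_norm_of (hP z D.hz)) hxz (mem_norm_of (hOnorm x hx))
      refine ⟨c * x, hc3, comm_mul hc2 hxz, ?_⟩
      have h1 := D.has.eq_one D.good D.hV D.hz (Y := O ⊓ centralizer {z})
        (Odd.of_dvd_nat hOodd (card_dvd_of_le inf_le_left)) (fun y hy => mem_cent.1 hy.2) (by
          rintro v hv y ⟨hy1, hy2⟩
          exact ⟨hOinv v hv y hy1, mem_cent.2 (comm_mul (comm_mul (D.hV.comm v hv z D.hz)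
            (mem_cent.1 hy2)) (comm_inv (D.hV.comm v hv z D.hz)))⟩) c ⟨hc, mem_cent.2 hc2⟩
      rw [D.has.mul hc2 hxz, h1, one_mul]
  have hle := hmax hgood
  simp only at hle
  have h5 : Nat.card R < Nat.card ((P : Subgroup O).map O.subtype) := by
    rw [hn, hPcard]
    exact lt_of_lt_of_le (Nat.pow_lt_pow_right hq.out.one_lt (Nat.lt_succ_self n))
      (Nat.pow_le_pow_right hq.out.pos hfacO)
  have h6 := hle h5.le
  omega

/-- `C(z)` normalises `W`. -/
theorem cent_le_norm (D : Dat ζ z p V W) (hIH : IH.{u, v} ζ (Nat.card G)) (hO : oddCore G = ⊥)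
    {x : G} (hx : x * z = z * x) : ∀ w ∈ W, x * w * x⁻¹ ∈ W := by
  have key : W ≤ W ⊓ W.comap (MulAut.conj x).toMonoidHom := by
    have h1 : Nat.card W ∣ Nat.card ↥(W ⊓ W.comap (MulAut.conj x).toMonoidHom) := by
      rw [Nat.dvd_iff_prime_pow_dvd_dvd]
      intro q k hq hk
      have : Fact q.Prime := ⟨hq⟩
      by_cases hk0 : k = 0
      · rw [hk0, pow_zero]; exact one_dvd _
      obtain ⟨R, hRW, hcard, hcov⟩ := exists_sylow_cov D hIH hO q (dvd_trans (dvd_pow_self q hk0) hk)
      have h2 : R ≤ W ⊓ W.comap (MulAut.conj x).toMonoidHom := by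
        refine le_inf hRW ?_
        intro y hy
        rw [mem_comap]
        change x * y * x⁻¹ ∈ W
        obtain ⟨x', hx', hx'z, hpx⟩ := hcov (p x)
        have h3 : x * x'⁻¹ ∈ centralizerPPrimeCore 2 z := by
          rw [D.has.mem_core D.good]
          refine ⟨comm_mul hx (comm_inv hx'z), ?_⟩
          rw [D.has.mul hx (comm_inv hx'z), D.has.inv hx'z, hpx, mul_inv_cancel]
        have h4 : x * x'⁻¹ ∈ W := D.core_le D.hz D.has.z_ne h3
        have h5 : x' * y * x'⁻¹ ∈ W := hRW (conj_mem_of_norm hx' hy)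
        have h6 : x * y * x⁻¹ = x * x'⁻¹ * (x' * y * x'⁻¹) * (x * x'⁻¹)⁻¹ := by group
        rw [h6]
        exact W.mul_mem (W.mul_mem h4 h5) (W.inv_mem h4)
      refine dvd_trans ?_ (card_dvd_of_le h2)
      rw [hcard]
      exact pow_dvd_pow q ((hq.pow_dvd_iff_le_factorization Nat.card_pos.ne').1 hk)
    have h2 : W ⊓ W.comap (MulAut.conj x).toMonoidHom = W :=
      eq_of_le_of_card_ge inf_le_left (Nat.le_of_dvd Nat.card_pos h1)
    exact h2.ge
  exact fun w hw => (key hw).2

/-- The core-free case. -/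
theorem core_eq_bot (hSE : SECore.{u}) (D : Dat ζ z p V W) (hIH : IH.{u, v} ζ (Nat.card G))
    (hO : oddCore G = ⊥) : W = ⊥ := by
  classical
  by_contra hW
  set M := normalizer (W : Set G) with hM
  have hMtop : M ≠ ⊤ := normalizer_ne_top hO hW D.odd
  have zz := D.has.zz
  have hCM : ∀ x : G, x * z = z * x → x ∈ M := fun x hx => mem_norm_of (cent_le_norm D hIH hO hx)
  have hzM : z ∈ M := hCM z rfl
  obtain ⟨c, hcW, hc1, hc2, hc3⟩ := D.exists_move
  have hcM : c ∈ M := mem_norm_of hcW
  have hsq : ∀ {a s : G}, s * s = 1 → a * s * a⁻¹ * (a * s * a⁻¹) = 1 := by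
    intro a s hs
    calc a * s * a⁻¹ * (a * s * a⁻¹) = a * (s * s) * a⁻¹ := by group
      _ = 1 := by rw [hs]; group
  have hne : ∀ {a s : G}, s ≠ 1 → a * s * a⁻¹ ≠ 1 := by
    intro a s hs h1
    apply hs
    calc s = a⁻¹ * (a * s * a⁻¹) * a := by group
      _ = 1 := by rw [h1]; group
  -- the involutions of `C(z)` are `M`-conjugate to `z`
  have hcz : ∀ t : G, t * z = z * t → t * t = 1 → t ≠ 1 → ∃ m ∈ M, m * z * m⁻¹ = t := by
    intro t htz tt t1
    by_cases h1 : t = z
    · exact ⟨1, M.one_mem, by rw [h1]; group⟩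
    obtain ⟨d, hd1, hd2⟩ := exists_conj_cent D.good D.has hc3 (hsq zz) (hne D.has.z_ne) hc1 htz tt t1 h1
    exact ⟨d * c, M.mul_mem (hCM d hd1) hcM, by rw [← hd2]; group⟩
  -- all involutions of `M` are `M`-conjugate to `z`
  have hall : ∀ t ∈ M, t * t = 1 → t ≠ 1 → ∃ m ∈ M, m * z * m⁻¹ = t := by
    intro t ht tt t1
    rcases Nat.even_or_odd (orderOf (z * t)) with hev | hodd
    · obtain ⟨k, hk⟩ := hev
      set r := z * t with hr
      have hrpos : 0 < orderOf r := orderOf_pos r
      have hkpos : 0 < k := by omega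
      set s := r ^ k with hs
      have ss : s * s = 1 := by rw [hs, ← pow_add, ← hk, pow_orderOf_eq_one]
      have s1 : s ≠ 1 := by
        intro h1
        have := orderOf_dvd_of_pow_eq_one h1
        have := Nat.le_of_dvd hkpos this
        omega
      have zi : z⁻¹ = z := inv_of_sq zz
      have ti : t⁻¹ = t := inv_of_sq tt
      have h1 : z * r * z⁻¹ = r⁻¹ := by
        rw [hr, mul_inv_rev, zi, ti]
        calc z * (z * t) * z = z * z * (t * z) := by group
          _ = t * z := by rw [zz, one_mul]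
      have h2 : t * r * t⁻¹ = r⁻¹ := by
        rw [hr, mul_inv_rev, zi, ti]
        calc t * (z * t) * t = t * z * (t * t) := by group
          _ = t * z := by rw [tt, mul_one]
      have hsz : s * z = z * s := by
        have h3 : z * s * z⁻¹ = s := by
          rw [hs, ← conj_pow, h1, inv_pow, ← hs, inv_of_sq ss]
        exact (mul_inv_eq_iff_eq_mul.1 h3).symm
      have hst : s * t = t * s := by
        have h3 : t * s * t⁻¹ = s := by
          rw [hs, ← conj_pow, h2, inv_pow, ← hs, inv_of_sq ss]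
        exact (mul_inv_eq_iff_eq_mul.1 h3).symm
      obtain ⟨a, ha, ha2⟩ := hcz s hsz ss s1
      have h4 : a⁻¹ * t * a * z = z * (a⁻¹ * t * a) := by
        calc a⁻¹ * t * a * z = a⁻¹ * (t * (a * z * a⁻¹)) * a := by group
          _ = a⁻¹ * (a * z * a⁻¹ * t) * a := by rw [ha2, hst]
          _ = z * (a⁻¹ * t * a) := by group
      have h5 : a⁻¹ * t * a * (a⁻¹ * t * a) = 1 := by
        calc a⁻¹ * t * a * (a⁻¹ * t * a) = a⁻¹ * (t * t) * a := by group
          _ = 1 := by rw [tt]; group
      have h6 : a⁻¹ * t * a ≠ 1 := by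
        intro h7
        apply t1
        calc t = a * (a⁻¹ * t * a) * a⁻¹ := by group
          _ = 1 := by rw [h7]; group
      obtain ⟨m, hm, hm2⟩ := hcz _ h4 h5 h6
      refine ⟨a * m, M.mul_mem ha hm, ?_⟩
      calc a * m * z * (a * m)⁻¹ = a * (m * z * m⁻¹) * a⁻¹ := by group
        _ = t := by rw [hm2]; group
    · obtain ⟨k, hk, hk2⟩ := exists_conj_of_odd zz tt hodd
      exact ⟨k, (zpowers_le.2 (M.mul_mem hzM ht)) hk, hk2⟩
  -- `M` is strongly embedded
  have hzo : orderOf z = 2 := orderOf_eq_prime (by rw [pow_two, zz]) D.has.z_ne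
  have hSEM : IsStronglyEmbedded M := by
    refine ⟨hMtop, ?_, ?_⟩
    · rw [even_iff_two_dvd, ← hzo]
      have h1 := orderOf_dvd_natCard (⟨z, hzM⟩ : M)
      rwa [Subgroup.orderOf_mk] at h1
    · intro g hg
      by_contra hcon
      rw [Nat.not_odd_iff_even, even_iff_two_dvd] at hcon
      have : Fact (Nat.Prime 2) := ⟨Nat.prime_two⟩
      obtain ⟨t', ht'⟩ := exists_prime_orderOf_dvd_card' 2 hcon
      obtain ⟨t, htt'⟩ : ∃ t : G, t = (t' : G) := ⟨_, rfl⟩
      have ht1 : t ∈ M := by rw [htt']; exact (mem_inf.1 t'.2).1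
      have ht2 : t ∈ M.map (MulAut.conj g).toMonoidHom := by rw [htt']; exact (mem_inf.1 t'.2).2
      have ht : orderOf t = 2 := by rw [htt', Subgroup.orderOf_coe]; exact ht'
      obtain ⟨m, hm, hm2⟩ := ht2
      have hm3 : g * m * g⁻¹ = t := hm2
      have tt : t * t = 1 := by rw [← pow_two, ← ht, pow_orderOf_eq_one]
      have t1 : t ≠ 1 := by
        rintro rfl
        rw [orderOf_one] at ht
        omega
      have hmt : m = g⁻¹ * t * g := by rw [← hm3]; group
      have mm : m * m = 1 := by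
        rw [hmt]
        calc g⁻¹ * t * g * (g⁻¹ * t * g) = g⁻¹ * (t * t) * g := by group
          _ = 1 := by rw [tt]; group
      have m1 : m ≠ 1 := by
        rintro rfl
        apply t1
        rw [← hm3]; group
      obtain ⟨a, ha, ha2⟩ := hall t ht1 tt t1
      obtain ⟨b, hb, hb2⟩ := hall m hm mm m1
      have h1 : a⁻¹ * g * b ∈ M := by
        apply hCM
        have h2 : a⁻¹ * g * b * z * (a⁻¹ * g * b)⁻¹ = z := by
          calc a⁻¹ * g * b * z * (a⁻¹ * g * b)⁻¹ = a⁻¹ * (g * (b * z * b⁻¹) * g⁻¹) * a := by group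
            _ = a⁻¹ * (a * z * a⁻¹) * a := by rw [hb2, hm3, ha2]
            _ = z := by group
        exact mul_inv_eq_iff_eq_mul.1 h2
      apply hg
      have h3 : g = a * (a⁻¹ * g * b) * b⁻¹ := by group
      rw [h3]
      exact M.mul_mem (M.mul_mem ha h1) (M.inv_mem hb)
  have h1 := hSE G M hSEM
  rw [hO] at h1
  have hWM : W ≤ M := le_normalizer
  have h2 : W.subgroupOf M ≤ oddCore M := by
    refine le_oddCore ?_ ?_
    · constructor
      rintro ⟨x, hx⟩ hxW ⟨y, hy⟩
      exact conj_mem_of_norm hy hxW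
    · rw [Nat.card_congr (subgroupOfEquivOfLe hWM).toEquiv]
      exact D.odd
  apply hW
  rw [eq_bot_iff]
  intro x hx
  exact h1 ⟨⟨x, hWM hx⟩, h2 hx, rfl⟩

end main

/-- **Theorem.** The odd core of the centraliser of a non-isolated involution of type `X` lies in the odd
core of the group. -/
theorem main (hFT : FT.{u}) (hSF : SFT.{u}) (hSE : SECore.{u}) {X : Type v} [Group X] [Finite X] {ζ : X}
    (hX : Good X ζ) : ∀ (n : ℕ), IH.{u, v} ζ n := by
  intro n
  induction n using Nat.strong_induction_on with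
  | _ n ih =>
    intro G _ _ hG z p h hn
    have hIH : IH.{u, v} ζ (Nat.card G) := ih (Nat.card G) hG
    by_cases hO : oddCore G = ⊥
    · obtain ⟨V, hV, hz⟩ := exists_v hX h
      obtain ⟨W, h1, h2, h3, h4⟩ := exists_w hFT hSF hX h hn hV hz
      have D : Dat ζ z p V W := ⟨hX, h, hn, hV, hz, h1, h2, h3, h4⟩
      have h5 := core_eq_bot hSE D hIH hO
      have h6 := D.core_le hz h.z_ne
      rw [h5] at h6
      exact h6.trans bot_le
    · have hnorm : (oddCore G).Normal := Lib.Cores.pPrimeCore_normal 2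
      have hlt : Nat.card (G ⧸ oddCore G) < Nat.card G := by
        have h1 := card_eq_card_quotient_mul_card_subgroup (oddCore G)
        have h2 : 1 < Nat.card (oddCore G) := (one_lt_card_iff_ne_bot _).2 hO
        have h3 : 0 < Nat.card (G ⧸ oddCore G) := Nat.card_pos
        rw [h1]
        exact lt_mul_of_one_lt_right h3 h2
      have hq := Exists.Has.quotient (oddCore G) hX h oddCore_odd
      have h1 := hIH (G ⧸ oddCore G) hlt _ _ hq (nonIso_quotient (oddCore G) h.zz oddCore_odd hn)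
      have hbot : oddCore (G ⧸ oddCore G) = ⊥ := Lib.Cores.pPrimeCore_quotient_pPrimeCore 2
      rw [hbot] at h1
      intro x hx
      have h2 := (h.mem_core hX).1 hx
      have h3 : (x : G ⧸ oddCore G) ∈ centralizerPPrimeCore 2 (z : G ⧸ oddCore G) := by
        rw [hq.mem_core hX, quo_eq (oddCore G) hX h oddCore_odd h2.1]
        refine ⟨?_, h2.2⟩
        rw [← QuotientGroup.mk_mul, h2.1, QuotientGroup.mk_mul]
      exact (QuotientGroup.eq_one_iff x).1 (mem_bot.1 (h1 h3))

end Cfsg.Agent.CoverCore.Main
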