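import Cfsg.Agent.CoverCore.Functor
import Cfsg.Agent.S0024
import Cfsg.Agent.S0025

/-!
# The interface `Has`: local analysis of the completion `W`
-/

set_option autoImplicit false

namespace Cfsg.Agent.CoverCore.Step

open Subgroup Cfsg Cfsg.Agent.StandardComponent.CentCore
open Cfsg.Agent.CoverCore.Abs Cfsg.Agent.CoverCore.HasCover Cfsg.Agent.CoverCore.Exists
open Cfsg.Agent.CoverCore.Functor

universe u

section general

variable {G : Type*} [Group G]

theorem mem_norm_of {K : Subgroup G} [Finite G] {x : G} (h : ∀ y ∈ K, x * y * x⁻¹ ∈ K) :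
    x ∈ normalizer (K : Set G) := by
  have h1 : K.map (MulAut.conj x).toMonoidHom ≤ K := by
    rintro _ ⟨y, hy, rfl⟩
    exact h y hy
  have h2 : K.map (MulAut.conj x).toMonoidHom = K :=
    eq_of_le_of_card_ge h1 (by rw [card_map_of_injective (MulAut.conj x).injective])
  rw [mem_normalizer_iff]
  intro y
  refine ⟨h y, fun hy => ?_⟩
  rw [← h2] at hy
  obtain ⟨w, hw, hw2⟩ := hy
  have h3 : x * w * x⁻¹ = x * y * x⁻¹ := hw2
  have h4 : w = y := by
    have := mul_left_cancel (mul_right_cancel h3)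
    exact this
  rwa [← h4]

theorem conj_mem_of_norm {K : Subgroup G} {x : G} (h : x ∈ normalizer (K : Set G)) {y : G} (hy : y ∈ K) :
    x * y * x⁻¹ ∈ K := (mem_normalizer_iff.1 h y).1 hy

/-- Frattini argument inside the centraliser of an involution. -/
theorem frattini [Finite G] (K : Subgroup G) (hK : Odd (Nat.card K)) (q : ℕ) [Fact q.Prime]
    (P : Sylow q K) {z x : G} (zz : z * z = 1) (hzK : z ∈ normalizer (K : Set G))
    (hzP : z ∈ normalizer (((P : Subgroup K).map K.subtype : Subgroup G) : Set G))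
    (hxz : x * z = z * x) (hxK : x ∈ normalizer (K : Set G)) :
    ∃ c ∈ K, c * z = z * c ∧ c * x ∈ normalizer (((P : Subgroup K).map K.subtype : Subgroup G) : Set G) := by
  classical
  set P' : Subgroup G := (P : Subgroup K).map K.subtype with hP'
  have hP'K : P' ≤ K := map_subtype_le _
  -- the conjugate Sylow subgroup
  let Q' : Subgroup G := P'.map (MulAut.conj x).toMonoidHom
  have hQ'K : Q' ≤ K := by
    rintro _ ⟨y, hy, rfl⟩
    exact conj_mem_of_norm hxK (hP'K hy)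
  have hcardQ : Nat.card (Q'.subgroupOf K) = q ^ (Nat.card K).factorization q := by
    rw [Nat.card_congr (subgroupOfEquivOfLe hQ'K).toEquiv, card_map_of_injective (MulAut.conj x).injective,
      hP', card_map_of_injective K.subtype_injective]
    exact P.card_eq_multiplicity
  let Q : Sylow q K := Sylow.ofCard (Q'.subgroupOf K) hcardQ
  have hQ : (Q : Subgroup K).map K.subtype = Q' := by
    have h1 : (Q : Subgroup K) = Q'.subgroupOf K := rfl
    rw [h1, subgroupOf_map_subtype, inf_eq_left.2 hQ'K]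
  have hzord : Nat.card (zpowers z) ∣ 2 := by
    rw [Nat.card_zpowers]
    exact orderOf_dvd_of_pow_eq_one (by rw [pow_two, zz])
  have hcop : (Nat.card (zpowers z)).Coprime (Nat.card K) :=
    Nat.Coprime.coprime_dvd_left hzord (Nat.coprime_two_left.2 hK)
  have hsolv : Group.IsSolvable (zpowers z) := inferInstance
  obtain ⟨c, hc1, hc2⟩ := Cfsg.Agent.S0024.result (zpowers z) K (by rwa [zpowers_le]) hcop
    (Or.inl hsolv) q Q P (by
      rw [zpowers_le, hQ]
      refine mem_norm_of ?_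
      rintro _ ⟨y, hy, rfl⟩
      refine ⟨z * y * z⁻¹, conj_mem_of_norm hzP hy, ?_⟩
      change x * (z * y * z⁻¹) * x⁻¹ = z * (x * y * x⁻¹) * z⁻¹
      calc x * (z * y * z⁻¹) * x⁻¹ = x * z * y * (x * z)⁻¹ := by group
        _ = z * (x * y * x⁻¹) * z⁻¹ := by rw [hxz]; group) (by rwa [zpowers_le])
  refine ⟨c, c.2, ?_, ?_⟩
  · exact ((mem_centralizer_iff.1 hc1) z (mem_zpowers z)).symm
  · refine mem_norm_of ?_
    intro y hy
    have h1 : x * y * x⁻¹ ∈ Q' := ⟨y, hy, rfl⟩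
    have h2 : (⟨x * y * x⁻¹, hQ'K h1⟩ : K) ∈ (Q : Subgroup K) := h1
    have h3 : c * ⟨x * y * x⁻¹, hQ'K h1⟩ * c⁻¹ ∈ (P : Subgroup K) := by
      rw [← hc2]
      exact Subgroup.smul_mem_pointwise_smul _ (MulAut.conj c) _ h2
    refine ⟨_, h3, ?_⟩
    change (c : G) * (x * y * x⁻¹) * (c : G)⁻¹ = c * x * y * (c * x)⁻¹
    group

end general

section main

variable {X : Type*} [Group X] [Finite X] {ζ : X} {G : Type u} [Group G] [Finite G] {z : G} {p : G → X}

/-- Data: the group `V` and the completion `W`. -/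
structure Dat (ζ : X) (z : G) (p : G → X) (V W : Subgroup G) : Prop where
  good : Good X ζ
  has : Has ζ z p
  non : NonIso z
  hV : ESixteen V
  hz : z ∈ V
  odd : Odd (Nat.card W)
  inv : ∀ v ∈ V, ∀ x ∈ W, v * x * v⁻¹ ∈ W
  cent : ∀ v ∈ V, v ≠ 1 → W ⊓ centralizer {v} = centralizerPPrimeCore 2 v
  uniq : ∀ Y : Subgroup G, Odd (Nat.card Y) → (∀ v ∈ V, ∀ x ∈ Y, v * x * v⁻¹ ∈ Y) → Y ≤ W

variable {V W : Subgroup G}

theorem Dat.core_le (D : Dat ζ z p V W) {v : G} (hv : v ∈ V) (hv1 : v ≠ 1) :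
    centralizerPPrimeCore 2 v ≤ W := by
  rw [← D.cent v hv hv1]; exact inf_le_left

theorem Dat.mem_core (D : Dat ζ z p V W) {v x : G} (hv : v ∈ V) (hv1 : v ≠ 1) (hx : x ∈ W)
    (hxv : x * v = v * x) : x ∈ centralizerPPrimeCore 2 v := by
  rw [← D.cent v hv hv1]; exact ⟨hx, mem_cent.2 hxv⟩

/-- an element of `N(W)` which moves `z` -/
theorem Dat.exists_move (D : Dat ζ z p V W) : ∃ c : G, (∀ x ∈ W, c * x * c⁻¹ ∈ W) ∧
    c * z * c⁻¹ ≠ z ∧ c * z * c⁻¹ ∈ V ∧ c * z * c⁻¹ * z = z * (c * z * c⁻¹) := by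
  have zz := D.has.zz
  obtain ⟨v, hv, hvl⟩ := exists_notMem D.hV.card [1, z] (by norm_num)
  simp only [List.mem_cons, List.not_mem_nil, or_false, not_or] at hvl
  obtain ⟨hv1, hvz⟩ := hvl
  have hzv := D.hV.comm z D.hz v hv
  have vv := D.hV.sq v hv
  have hzv1 : z * v ≠ 1 := fun h1 => hvz (by
    have := mul_eq_one_iff_eq_inv.1 h1
    rw [inv_of_sq vv] at this
    exact this.symm)
  have hzvV : z * v ∈ V := D.hV.1 |> fun _ => V.mul_mem D.hz hv
  have hzvz : z * v ≠ z := fun h1 => hv1 (mul_eq_left.1 h1)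
  have hzvv : z * v ≠ v := fun h1 => D.has.z_ne (mul_eq_right.1 h1)
  obtain ⟨g, hg⟩ := conj_of_mem D.good D.has D.non D.hV D.hz hv hv1
  -- `z` and `z v` are conjugate in `C(v)`
  have e1 : ∀ s : G, s * v = v * s → g⁻¹ * s * g * z = z * (g⁻¹ * s * g) := by
    intro s hs
    calc g⁻¹ * s * g * z = g⁻¹ * (s * (g * z * g⁻¹)) * g := by group
      _ = g⁻¹ * (g * z * g⁻¹ * s) * g := by rw [hg, hs]
      _ = z * (g⁻¹ * s * g) := by group
  have e2 : ∀ s : G, s * s = 1 → g⁻¹ * s * g * (g⁻¹ * s * g) = 1 := by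
    intro s hs
    calc g⁻¹ * s * g * (g⁻¹ * s * g) = g⁻¹ * (s * s) * g := by group
      _ = 1 := by rw [hs]; group
  have e3 : ∀ s : G, s ≠ 1 → g⁻¹ * s * g ≠ 1 := by
    intro s hs h1
    apply hs
    calc s = g * (g⁻¹ * s * g) * g⁻¹ := by group
      _ = 1 := by rw [h1]; group
  have e4 : ∀ s : G, s ≠ v → g⁻¹ * s * g ≠ z := by
    intro s hs h1
    apply hs
    calc s = g * (g⁻¹ * s * g) * g⁻¹ := by group
      _ = v := by rw [h1, hg]
  obtain ⟨c, hc1, hc2⟩ := exists_conj_cent D.good D.has (e1 z hzv) (e2 z zz) (e3 z D.has.z_ne)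
    (e4 z (Ne.symm hvz)) (e1 (z * v) (by rw [mul_assoc, ← mul_assoc v z v, ← hzv, mul_assoc]))
    (e2 (z * v) (D.hV.sq _ hzvV)) (e3 (z * v) hzv1) (e4 _ hzvv)
  -- `d = g c g⁻¹`
  have hd1 : g * c * g⁻¹ * v * (g * c * g⁻¹)⁻¹ = v := by
    calc g * c * g⁻¹ * v * (g * c * g⁻¹)⁻¹ = g * c * (g⁻¹ * v * g) * c⁻¹ * g⁻¹ := by group
      _ = g * (c * z * c⁻¹) * g⁻¹ := by
        have : g⁻¹ * v * g = z := by rw [← hg]; group
        rw [this]; group
      _ = v := by rw [hc1, mul_inv_cancel_right, hg]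
  have hd2 : g * c * g⁻¹ * z * (g * c * g⁻¹)⁻¹ = z * v := by
    calc g * c * g⁻¹ * z * (g * c * g⁻¹)⁻¹ = g * (c * (g⁻¹ * z * g) * c⁻¹) * g⁻¹ := by group
      _ = z * v := by rw [hc2]; group
  set d := g * c * g⁻¹ with hd
  have hd3 : d * (z * v) * d⁻¹ = z := by
    calc d * (z * v) * d⁻¹ = d * z * d⁻¹ * (d * v * d⁻¹) := by group
      _ = z := by rw [hd1, hd2, mul_assoc, vv, mul_one]
  have hcore : ∀ {a b x : G}, d * a * d⁻¹ = b → x ∈ centralizerPPrimeCore 2 a →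
      d * x * d⁻¹ ∈ centralizerPPrimeCore 2 b := by
    intro a b x hab hx
    rw [← hab, mem_core_conj]
    have : d⁻¹ * (d * x * d⁻¹) * d = x := by group
    rwa [this]
  refine ⟨d, ?_, ?_, ?_, ?_⟩
  · have hle : W ≤ W.comap (MulAut.conj d).toMonoidHom := by
      refine le_of_four zz vv hzv D.has.z_ne hv1 (Ne.symm hvz) D.odd (D.inv z D.hz) (D.inv v hv) ?_ ?_ ?_
      · intro x hx hxz
        exact D.core_le hzvV hzv1 (hcore hd2 (D.mem_core D.hz D.has.z_ne hx hxz))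
      · intro x hx hxz
        exact D.core_le hv hv1 (hcore hd1 (D.mem_core hv hv1 hx hxz))
      · intro x hx hxz
        exact D.core_le D.hz D.has.z_ne (hcore hd3 (D.mem_core hzvV hzv1 hx hxz))
    exact fun x hx => hle hx
  · rw [hd2]; exact hzvz
  · rw [hd2]; exact hzvV
  · rw [hd2]; exact D.hV.comm _ hzvV _ D.hz

/-- `R` is a `V`-invariant `q`-subgroup whose normaliser covers `X`. -/
structure GoodR (z : G) (p : G → X) (V : Subgroup G) (q : ℕ) (R : Subgroup G) : Prop where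
  inv : ∀ v ∈ V, ∀ x ∈ R, v * x * v⁻¹ ∈ R
  pgr : IsPGroup q R
  ne : R ≠ ⊥
  cov : ∀ a : X, ∃ x ∈ normalizer (R : Set G), x * z = z * x ∧ p x = a

theorem card_v_coprime (hV : ESixteen V) {K : Subgroup G} (hK : Odd (Nat.card K)) :
    (Nat.card V).Coprime (Nat.card K) := by
  rw [hV.card]
  have : (16 : ℕ) = 2 ^ 4 := by norm_num
  rw [this]
  exact Nat.Coprime.pow_left 4 (Nat.coprime_two_left.2 hK)

theorem solvable_v (hV : ESixteen V) : Group.IsSolvable V := by
  have : IsMulCommutative V := ⟨⟨fun x y => Subtype.ext (hV.comm x x.2 y y.2)⟩⟩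
  exact Group.isSolvable_of_comm fun x y => Subtype.ext (hV.comm x x.2 y y.2)

/-- `V`-invariant Sylow subgroups -/
theorem exists_sylow (hV : ESixteen V) {K : Subgroup G} (hK : Odd (Nat.card K))
    (hinv : ∀ v ∈ V, ∀ x ∈ K, v * x * v⁻¹ ∈ K) (q : ℕ) [Fact q.Prime] :
    ∃ P : Sylow q K, ∀ v ∈ V, ∀ x ∈ (P : Subgroup K).map K.subtype,
      v * x * v⁻¹ ∈ (P : Subgroup K).map K.subtype := by
  obtain ⟨P, -, hP⟩ := Cfsg.Agent.S0025.result V K (fun v hv => mem_norm_of (hinv v hv))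
    (card_v_coprime hV hK) (Or.inl (solvable_v hV)) q ⊥ bot_le IsPGroup.of_bot (fun v _ =>
      mem_norm_of (fun y hy => by rw [mem_bot.1 hy]; simp))
  exact ⟨P, fun v hv x hx => conj_mem_of_norm (hP hv) hx⟩

end main

end Cfsg.Agent.CoverCore.Step
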